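import Cfsg.Agent.Lib.U34Char.Three.Linear
import Cfsg.Agent.Lib.PiClosedTwo.Chars

/-!
The inner case does not occur.
-/

set_option autoImplicit false
set_option linter.unusedSectionVars false
set_option linter.style.haveILetI false

namespace CfsgLib.U34Char

open Cfsg CfsgLib CfsgLib.CharTheory CfsgLib.Blocks CfsgLib.PiClosedTwo
open scoped ComplexConjugate

universe u

namespace Three

variable {G : Type u} [Group G] [Fintype G] {S : Sylow 2 G} {a b : G}

/-- A class function is constant on the involutions of `S`. -/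
theorem four_value {h : Three S a b} (F : Frame h) {f : G → ℂ} (hf : IsClassFunction G f) {z : G}
    (hz : z ∈ four S) (hz1 : z ≠ 1) : f z = f a := by
  have hc : ∀ i, f (F.act i a) = f a := fun i => hf a (F.y ^ i)
  have hn : ∀ i, F.act i a ≠ 1 := fun i e => h.ha.2.1.1 (conj_eq_one_iff.mp e)
  have n1 := F.act_move (i := 1) (by norm_num) (by norm_num) h.a_mem h.ha.2.1.1
  have n2 := F.act_move (i := 2) (by norm_num) (by norm_num) h.a_mem h.ha.2.1.1
  have n3 : F.act 2 a ≠ F.act 1 a := fun e => F.act_move (i := 1) (by norm_num) (by norm_num)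
    (F.act_four_mem 1 h.a_mem) (hn 1) ((F.act_add 1 1 a).symm.trans e)
  rcases h.mem_four.1 hz with e | e | e | e
  · exact absurd e hz1
  · rw [e]
  all_goals
    rcases h.mem_four.1 (F.act_four_mem 1 h.a_mem) with e1 | e1 | e1 | e1 <;>
      rcases h.mem_four.1 (F.act_four_mem 2 h.a_mem) with e2 | e2 | e2 | e2 <;> first
        | exact absurd e1 (hn 1)
        | exact absurd e2 (hn 2)
        | exact absurd e1 n1
        | exact absurd e2 n2
        | exact absurd (e2.trans e1.symm) n3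
        | exact (congrArg f (e.trans e1.symm)).trans (hc 1)
        | exact (congrArg f (e.trans e2.symm)).trans (hc 2)

/-- The configuration does not occur. -/
theorem false (h : Three S a b) : False := by
  classical
  have hs := h.sixty
  obtain ⟨F⟩ := h.exists_frame
  obtain ⟨M, hM⟩ := ZStar.exists_isPModular Nat.prime_two
  obtain ⟨r, hr1, hrne, hrinj, hrsum⟩ := F.exists_linear
  obtain ⟨ψ, hψr, hψ0, hψ1, hψsum, hψψ⟩ := F.exists_four
  let C : Subgroup ↥(S : Subgroup G) := Subgroup.center (S : Subgroup G)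
  have hS64 : Fintype.card ↥(S : Subgroup G) = 64 := by rw [← Nat.card_eq_fintype_card, h.sixty.card]
  have hC4 : (Finset.univ.filter fun x : ↥(S : Subgroup G) => x ∈ C).card = 4 := by
    rw [← Fintype.card_subtype, ← Nat.card_eq_fintype_card]
    exact h.sixty.card_center
  let za : ↥(S : Subgroup G) := ⟨a, h.four_le h.a_mem⟩
  set P : ↥(S : Subgroup G) → ℂ := (ψ : ↥(S : Subgroup G) → ℂ) with hP
  let L : Fin 5 → ↥(S : Subgroup G) → ℂ := fun j x => ((r j x : ℂˣ) : ℂ)
  have hrsq : ∀ j x, r j x * r j x = 1 := fun j x => by rw [← map_mul, hr1 j _ (h.sixty.sq x)]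
  have hLr : ∀ j x, conj (L j x) = L j x := fun j x => by
    have h1 : L j x * L j x = 1 := by
      show ((r j x : ℂˣ) : ℂ) * ((r j x : ℂˣ) : ℂ) = 1
      rw [← Units.val_mul, hrsq, Units.val_one]
    rcases mul_self_eq_one_iff.1 h1 with e | e <;> simp [e]
  have hLC : ∀ j, ∀ z ∈ C, L j z = 1 := fun j z hz => by
    show ((r j z : ℂˣ) : ℂ) = 1
    rw [hr1 j z hz, Units.val_one]
  have hsumhom : ∀ μ : ↥(S : Subgroup G) →* ℂˣ,
      ∑ x, ((μ x : ℂˣ) : ℂ) = if μ = 1 then 64 else 0 := by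
    intro μ
    split_ifs with hμ
    · subst hμ; simp [hS64]
    · refine sum_hom_units_eq_zero ((Units.coeHom ℂ).comp μ) fun e => hμ (MonoidHom.ext fun x => Units.ext ?_)
      exact DFunLike.congr_fun e x
  have hL : ∀ j, ∑ x, L j x = 0 := fun j => by rw [hsumhom, if_neg (hrne j)]
  have hLσ : ∀ k (i : Fin 3), ∑ x, L k (F.aut i x) = 0 := fun k i => by
    rw [← hL k]
    exact Fintype.sum_bijective _ ((Finite.injective_iff_bijective).1 (F.aut_injective i)) _ _ fun x => rfl
  have hLL : ∀ j k (i : Fin 3), ∑ x, L j x * L k (F.aut i x) = if j = k ∧ i = 0 then 64 else 0 := by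
    intro j k i
    have h1 : ∑ x, L j x * L k (F.aut i x) = ∑ x, ((( r j * (r k).comp (F.aut i)) x : ℂˣ) : ℂ) :=
      Finset.sum_congr rfl fun x _ => (Units.val_mul _ _).symm
    rw [h1, hsumhom]
    refine if_congr ⟨fun e => ?_, ?_⟩ rfl rfl
    · have e1 : (r k).comp (F.aut i) = r j := MonoidHom.ext fun x => by
        have := DFunLike.congr_fun e x
        rw [MonoidHom.mul_apply, MonoidHom.one_apply, MonoidHom.comp_apply] at this
        rw [MonoidHom.comp_apply]
        exact mul_left_cancel (this.trans (hrsq j x).symm)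
      obtain ⟨rfl, rfl⟩ := hrinj k i j e1
      exact ⟨rfl, rfl⟩
    · rintro ⟨rfl, rfl⟩
      refine MonoidHom.ext fun x => ?_
      rw [MonoidHom.mul_apply, MonoidHom.comp_apply, Fin.val_zero, F.aut_zero]
      exact hrsq j x
  have hCσ : ∀ (i : ℕ) x, F.aut i x ∈ C → x ∈ C := by
    intro i x hx
    refine h.sixty.inv x (F.aut_injective i ?_)
    rw [map_mul, map_one]
    exact h.sixty.cen _ hx
  have hPμ : ∀ μ : ↥(S : Subgroup G) → ℂ, (∀ z ∈ C, μ z = 1) → ∑ x, P x * μ x = 0 := by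
    intro μ hμ
    rw [← hψsum]
    refine Finset.sum_congr rfl fun x _ => ?_
    by_cases hx : x ∈ C
    · rw [hμ x hx, mul_one]
    · rw [hψ0 x hx, zero_mul]
  have hLP : ∀ j (i : Fin 3), ∑ x, L j x * P (F.aut i x) = 0 := by
    intro j i
    have h1 : ∑ x, P (F.aut i x) = 0 := by
      rw [← hψsum]
      exact Fintype.sum_bijective _ ((Finite.injective_iff_bijective).1 (F.aut_injective i)) _ _ fun x => rfl
    rw [← h1]
    refine Finset.sum_congr rfl fun x _ => ?_
    by_cases hx : x ∈ C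
    · rw [hLC j x hx, one_mul]
    · rw [hψ0 _ (fun e => hx (hCσ i x e)), mul_zero]
  have hPL : ∀ k (i : Fin 3), ∑ x, P x * L k (F.aut i x) = 0 := fun k i =>
    hPμ _ fun z hz => hLC k _ (F.aut_center i hz)
  -- the functions
  let f : Fin 5 → ↥(S : Subgroup G) → ℂ := fun j x => L j x - 1
  let g : ↥(S : Subgroup G) → ℂ := fun x => P x - 4 * L 0 x
  have hf1 : ∀ j, f j 1 = 0 := fun j => by simp [f, L]
  have hg1 : g 1 = 0 := by
    show P 1 - 4 * L 0 1 = 0
    rw [show P 1 = 4 from hψ1]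
    simp [L]
  have hLc : ∀ j, IsClassFunction ↥(S : Subgroup G) (L j) := fun j x y =>
    isClassFunction_irr (isIrrCharacter_linear (r j)) x y
  have hfc : ∀ j, IsClassFunction ↥(S : Subgroup G) (f j) := fun j x y => by simp only [f]; rw [hLc j x y]
  have hgc : IsClassFunction ↥(S : Subgroup G) g := fun x y => by
    simp only [g]
    rw [hLc 0 x y, show P (y * x * y⁻¹) = P x from isClassFunction_irr ψ.2 x y]
  -- multiplicities
  have hm : ∀ (θ : ↥(S : Subgroup G) → ℂ), IsCharacter ↥(S : Subgroup G) θ → ∀ χ : IrrCharacter G,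
      ∃ n : ℕ, (64 : ℂ)⁻¹ * ∑ x : ↥(S : Subgroup G), θ x * conj ((χ : G → ℂ) x) = n := by
    intro θ hθ χ
    obtain ⟨n, hn⟩ := classInner_char_nat hθ (isCharacter_restrict_irr (S : Subgroup G) χ)
    refine ⟨n, ?_⟩
    rw [← hn, classInner, h.sixty.card]
    norm_num
  choose m hm' using fun j : Fin 5 => hm (L j) (isCharacter_of_irr (isIrrCharacter_linear (r j)))
  choose m1 hm1 using hm (fun _ => 1) isCharacter_one
  choose mp hmp using hm P (isCharacter_of_irr ψ.2)
  set B := principalBlock M G with hB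
  let A : Fin 5 → IrrCharacter G → ℤ := fun j χ => if χ ∈ B then (m j χ : ℤ) - m1 χ else 0
  let E : IrrCharacter G → ℤ := fun χ => if χ ∈ B then (mp χ : ℤ) - 4 * m 0 χ else 0
  have hA : ∀ j χ, (A j χ : ℂ) = Frame.coef (S := S) M (f j) χ := by
    intro j χ
    show ((if χ ∈ B then (m j χ : ℤ) - m1 χ else 0 : ℤ) : ℂ) = _
    by_cases hχ : χ ∈ B
    · rw [if_pos hχ, Frame.coef, ind_of_mem hχ, one_mul]
      push_cast
      rw [← hm' j χ, ← hm1 χ, ← mul_sub, ← Finset.sum_sub_distrib]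
      congr 1
      exact Finset.sum_congr rfl fun x _ => by simp only [f]; ring
    · rw [if_neg hχ, Frame.coef, ind_of_notMem hχ, zero_mul, Int.cast_zero]
  have hE : ∀ χ, (E χ : ℂ) = Frame.coef (S := S) M g χ := by
    intro χ
    show ((if χ ∈ B then (mp χ : ℤ) - 4 * m 0 χ else 0 : ℤ) : ℂ) = _
    by_cases hχ : χ ∈ B
    · rw [if_pos hχ, Frame.coef, ind_of_mem hχ, one_mul]
      push_cast
      rw [← hmp χ, ← hm' 0 χ, mul_left_comm (4 : ℂ), ← mul_sub, Finset.mul_sum, ← Finset.sum_sub_distrib]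
      congr 1
      exact Finset.sum_congr rfl fun x _ => by simp only [g]; ring
    · rw [if_neg hχ, Frame.coef, ind_of_notMem hχ, zero_mul, Int.cast_zero]
  have hgram : ∀ (u v : IrrCharacter G → ℤ) (p q : ↥(S : Subgroup G) → ℂ),
      (∀ χ, (u χ : ℂ) = Frame.coef (S := S) M p χ) → (∀ χ, (v χ : ℂ) = Frame.coef (S := S) M q χ) →
      p 1 = 0 → q 1 = 0 → IsClassFunction ↥(S : Subgroup G) q → (∀ x, conj (q x) = q x) →
      ((∑ χ, u χ * v χ : ℤ) : ℂ) = ∑ i : Fin 3, (64 : ℂ)⁻¹ * ∑ x, p x * q (F.aut i x) := by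
    intro u v p q hu hv hp hq hqc hqr
    rw [Int.cast_sum, Finset.sum_congr rfl fun χ _ => show ((u χ * v χ : ℤ) : ℂ) =
      Frame.coef (S := S) M p χ * conj (Frame.coef (S := S) M q χ) by
      rw [Int.cast_mul, ← hu, ← hv, map_intCast], F.sum_coef_mul hM p q hp hq hqc]
    simp only [hqr]
  have hfr : ∀ j x, conj (f j x) = f j x := fun j x => by simp [f, hLr]
  have hgr : ∀ x, conj (g x) = g x := fun x => by
    simp only [g, map_sub, map_mul, hLr, map_ofNat]
    rw [show conj (P x) = P x from hψr x]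
  have e11 : ∀ j k (i : Fin 3), ∑ x, f j x * f k (F.aut i x) = (if j = k ∧ i = 0 then 64 else 0) + 64 := by
    intro j k i
    simp only [f, sub_mul, mul_sub, mul_one, one_mul, Finset.sum_sub_distrib]
    rw [hLL, hL, hLσ, Finset.sum_const, Finset.card_univ, hS64]
    norm_num
  have e12 : ∀ j (i : Fin 3), ∑ x, f j x * g (F.aut i x) = -4 * (if j = 0 ∧ i = 0 then 64 else 0) := by
    intro j i
    rw [Finset.sum_congr rfl fun x _ => show f j x * g (F.aut i x) =
      L j x * P (F.aut i x) - P (F.aut i x) - 4 * (L j x * L 0 (F.aut i x)) + 4 * L 0 (F.aut i x) by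
      simp only [f, g]; ring]
    rw [Finset.sum_add_distrib, Finset.sum_sub_distrib, Finset.sum_sub_distrib, ← Finset.mul_sum, ← Finset.mul_sum,
      hLP, hLσ, hLL, show ∑ x, P (F.aut i x) = 0 from (Fintype.sum_bijective _
        ((Finite.injective_iff_bijective).1 (F.aut_injective i)) _ _ fun x => rfl).trans hψsum]
    ring
  have e22 : ∀ i : Fin 3, ∑ x, g x * g (F.aut i x) = if i = 0 then 17 * 64 else 0 := by
    intro i
    rw [Finset.sum_congr rfl fun x _ => show g x * g (F.aut i x) =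
      P x * P (F.aut i x) - 4 * (L 0 x * P (F.aut i x)) - 4 * (P x * L 0 (F.aut i x)) +
        16 * (L 0 x * L 0 (F.aut i x)) by simp only [g]; ring]
    rw [Finset.sum_add_distrib, Finset.sum_sub_distrib, Finset.sum_sub_distrib, ← Finset.mul_sum, ← Finset.mul_sum,
      ← Finset.mul_sum, hLP, hPL, hLL, show ∑ x, P x * P (F.aut i x) = _ from hψψ i]
    by_cases hi : i = 0 <;> simp [hi] <;> norm_num
  have hA2 : ∀ j k, ((∑ χ, A j χ * A k χ : ℤ) : ℂ) = if j = k then 4 else 3 := by
    intro j k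
    rw [hgram _ _ _ _ (hA j) (hA k) (hf1 j) (hf1 k) (hfc k) (hfr k)]
    simp only [e11, Fin.sum_univ_three]
    by_cases hjk : j = k <;> simp [hjk] <;> norm_num
  -- restriction to the center
  have hval : ∀ χ : IrrCharacter G, χ ∈ B →
      (χ : G → ℂ) a = 3 * (∑ k, ((m k χ : ℂ) - m1 χ)) - 4 * ((mp χ : ℂ) - 4 * m 0 χ) - 16 * ((m 0 χ : ℂ) - m1 χ) ∧
      (χ : G → ℂ) 1 = 3 * (∑ k, ((m k χ : ℂ) - m1 χ)) + 12 * ((mp χ : ℂ) - 4 * m 0 χ) +
        48 * ((m 0 χ : ℂ) - m1 χ) + 64 * (m1 χ : ℂ) := by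
    intro χ _
    have hχa : conj ((χ : G → ℂ) a) = (χ : G → ℂ) a := by
      rw [irr_conjInv, inv_eq_of_mul_eq_one_right (h.four_sq h.a_mem)]
    have hconst : ∀ θ : ↥(S : Subgroup G) → ℂ, (∀ x, x ∉ C → θ x = 0) →
        ∑ x : ↥(S : Subgroup G), θ x * conj ((χ : G → ℂ) x) =
          θ 1 * ((χ : G → ℂ) 1 - (χ : G → ℂ) a) + (χ : G → ℂ) a * ∑ x, θ x := by
      intro θ hθ
      rw [← Finset.add_sum_erase _ (fun x : ↥(S : Subgroup G) => θ x * conj ((χ : G → ℂ) x)) (Finset.mem_univ 1),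
        ← Finset.add_sum_erase _ θ (Finset.mem_univ (1 : ↥(S : Subgroup G))), mul_add, Finset.mul_sum,
        Finset.sum_congr rfl fun x (hx : x ∈ Finset.univ.erase (1 : ↥(S : Subgroup G))) =>
          show θ x * conj ((χ : G → ℂ) x) = (χ : G → ℂ) a * θ x by
          by_cases hxC : x ∈ C
          · rw [four_value F (irr_isClassFun χ) ((h.mem_center_iff_four x).1 hxC)
              (fun e => Finset.ne_of_mem_erase hx (Subtype.ext e)), hχa]
            ring
          · rw [hθ x hxC]; ring,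
        show ((1 : ↥(S : Subgroup G)) : G) = 1 from rfl, irr_one_conj]
      ring
    have hT : 64 * ((m1 χ : ℂ) + 3 * ∑ k, (m k χ : ℂ)) = 16 * ((χ : G → ℂ) 1 + 3 * (χ : G → ℂ) a) := by
      have h1 : ∑ x : ↥(S : Subgroup G), (if x ∈ C then (16 : ℂ) else 0) * conj ((χ : G → ℂ) x) =
          16 * ((χ : G → ℂ) 1 + 3 * (χ : G → ℂ) a) := by
        rw [hconst _ (fun x hx => if_neg hx), if_pos (one_mem C), ← Finset.sum_filter, Finset.sum_const, hC4]
        norm_num; ring
      rw [← h1]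
      have hsub : ∀ k (i : Fin 3), ∑ x : ↥(S : Subgroup G), L k (F.aut i x) * conj ((χ : G → ℂ) x) =
          64 * (m k χ : ℂ) := by
        intro k i
        rw [← hm' k χ, ← mul_assoc, mul_inv_cancel₀ (by norm_num : (64 : ℂ) ≠ 0), one_mul]
        refine Fintype.sum_bijective _ ((Finite.injective_iff_bijective).1 (F.aut_injective i)) _ _ fun x => ?_
        show L k (F.aut i x) * conj ((χ : G → ℂ) x) = L k (F.aut i x) * conj ((χ : G → ℂ) (F.aut i x : ↥(S : Subgroup G)))
        rw [Three.Frame.coe_aut, show (χ : G → ℂ) (F.act i x) = (χ : G → ℂ) x from irr_isClassFun χ (x : G) _]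
      rw [Finset.sum_congr rfl fun x _ => show (if x ∈ C then (16 : ℂ) else 0) * conj ((χ : G → ℂ) x) =
        1 * conj ((χ : G → ℂ) x) + ∑ k, ∑ i : Fin 3, L k (F.aut i x) * conj ((χ : G → ℂ) x) by
        rw [← hrsum x]; simp only [add_mul, Finset.sum_mul]; rfl]
      rw [Finset.sum_add_distrib, Finset.sum_comm, Finset.sum_congr rfl fun k _ =>
        Finset.sum_comm.trans (Finset.sum_congr rfl fun i _ => hsub k i)]
      rw [show ∑ x : ↥(S : Subgroup G), (1 : ℂ) * conj ((χ : G → ℂ) x) = 64 * (m1 χ : ℂ) by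
        rw [← hm1 χ, ← mul_assoc, mul_inv_cancel₀ (by norm_num : (64 : ℂ) ≠ 0), one_mul]]
      simp only [Finset.sum_const, Finset.card_univ, Fintype.card_fin, nsmul_eq_mul, ← Finset.mul_sum]
      push_cast; ring
    have hN : 64 * (mp χ : ℂ) = 4 * ((χ : G → ℂ) 1 - (χ : G → ℂ) a) := by
      rw [← hmp χ, ← mul_assoc, mul_inv_cancel₀ (by norm_num : (64 : ℂ) ≠ 0), one_mul,
        hconst P hψ0, show P 1 = 4 from hψ1, show ∑ x, P x = 0 from hψsum]
      ring
    rw [Finset.sum_sub_distrib, Finset.sum_const, Finset.card_univ, Fintype.card_fin, nsmul_eq_mul]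
    push_cast
    constructor
    · linear_combination (-(1 : ℂ) / 64) * hT + (1 / 16 : ℂ) * hN
    · linear_combination (-(1 : ℂ) / 64) * hT + (-(3 : ℂ) / 16) * hN
  have hone : ((oneIrr G : IrrCharacter G) : G → ℂ) = fun _ => 1 := rfl
  have hm1e : (m1 (oneIrr G) : ℂ) = 1 := by
    rw [← hm1, hone]; simp [hS64]
  have hme : ∀ j, (m j (oneIrr G) : ℂ) = 0 := fun j => by
    rw [← hm', hone]; simp [hL]
  have hmpe : (mp (oneIrr G) : ℂ) = 0 := by
    rw [← hmp, hone]; simp only [map_one, mul_one]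
    rw [show ∑ x, P x = 0 from hψsum, mul_zero]
  have he : oneIrr G ∈ B := oneIrr_mem hM
  let T : IrrCharacter G → ℤ := fun χ => 3 * (∑ k, A k χ) - 4 * E χ - 16 * A 0 χ
  have hmem : ∀ χ j, A j χ ≠ 0 → χ ∈ B := fun χ j hne => by
    by_contra hχ
    exact hne (if_neg hχ)
  have hTa : ∀ χ, χ ∈ B → (T χ : ℂ) = (χ : G → ℂ) a := by
    intro χ hχ
    rw [(hval χ hχ).1]
    simp only [T, A, E, if_pos hχ]
    push_cast
    ring
  refine Cols.false (I := IrrCharacter G)
    { a := A, b := E, D := fun χ => charDegree (χ : G → ℂ), t := T, e := oneIrr G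
      ae := fun j => Int.cast_injective (α := ℂ) (by
        simp only [A, if_pos he]; push_cast; rw [hme, hm1e]; ring)
      be := Int.cast_injective (α := ℂ) (by
        simp only [E, if_pos he]; push_cast; rw [hme, hmpe]; ring)
      De := Nat.cast_injective (R := ℂ) (by rw [irr_charDegree_cast, hone, Nat.cast_one])
      Dpos := fun χ => irr_charDegree_pos χ
      D1 := fun χ hχ => eq_one_of_degree_one h.conf.simple h.conf.nonab χ (by
        rw [← irr_charDegree_cast, show charDegree (χ : G → ℂ) = 1 from hχ, Nat.cast_one])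
      haa := fun j => Int.cast_injective (α := ℂ) (by rw [hA2, if_pos rfl]; norm_num)
      hak := fun j k hjk => Int.cast_injective (α := ℂ) (by rw [hA2, if_neg hjk]; norm_num)
      hab0 := Int.cast_injective (α := ℂ) (by
        rw [hgram _ _ _ _ (hA 0) hE (hf1 0) hg1 hgc hgr]
        simp [e12, Fin.sum_univ_three]; norm_num)
      hab := fun j hj => Int.cast_injective (α := ℂ) (by
        rw [hgram _ _ _ _ (hA j) hE (hf1 j) hg1 hgc hgr]
        simp [e12, Fin.sum_univ_three, hj])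
      hbb := Int.cast_injective (α := ℂ) (by
        rw [hgram _ _ _ _ hE hE hg1 hg1 hgc hgr]
        simp [e22, Fin.sum_univ_three]; norm_num)
      deg := fun j => Int.cast_injective (α := ℂ) ?_
      val := fun χ j hne => ⟨rfl, ?_⟩
      sq := ?_ }
  · push_cast
    rw [Finset.sum_congr rfl fun χ _ => show (A j χ : ℂ) * (charDegree (χ : G → ℂ) : ℂ) =
      ∑ x : ↥(S : Subgroup G), (64 : ℂ)⁻¹ * (f j x * (ind B χ * conj ((χ : G → ℂ) x) * (χ : G → ℂ) 1)) by
        rw [hA, irr_charDegree_cast, Frame.coef, Finset.mul_sum, Finset.mul_sum, Finset.sum_mul]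
        exact Finset.sum_congr rfl fun x _ => by ring]
    rw [Finset.sum_comm]
    refine Finset.sum_eq_zero fun x _ => ?_
    rw [← Finset.mul_sum, ← Finset.mul_sum]
    by_cases hx : x = 1
    · rw [hx, hf1]; ring
    · rw [h.block_orth_one hM x.2 (fun e => hx (Subtype.ext e))]; ring
  · have hχ := hmem χ j hne
    refine ⟨(m1 χ : ℤ), Int.cast_injective (α := ℂ) ?_⟩
    simp only [A, E, if_pos hχ]
    push_cast
    rw [irr_charDegree_cast, (hval χ hχ).2]
    ring
  · refine Rat.cast_injective (α := ℂ) ?_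
    push_cast
    rw [Finset.sum_congr rfl fun χ _ => show (A 0 χ : ℂ) * (T χ : ℂ) ^ 2 / (charDegree (χ : G → ℂ) : ℂ) =
      ∑ x : ↥(S : Subgroup G), (64 : ℂ)⁻¹ * (f 0 x * (ind B χ * conj ((χ : G → ℂ) x) *
        ((χ : G → ℂ) a * ((χ : G → ℂ) a / (χ : G → ℂ) 1)))) by
      have e1 : (A 0 χ : ℂ) * (T χ : ℂ) ^ 2 = (A 0 χ : ℂ) * ((χ : G → ℂ) a) ^ 2 := by
        by_cases hz : A 0 χ = 0
        · rw [hz, Int.cast_zero]; ring
        · rw [hTa χ (hmem χ 0 hz)]
      rw [e1, hA, irr_charDegree_cast, Frame.coef, Finset.mul_sum, Finset.mul_sum, Finset.sum_mul, Finset.sum_div]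
      exact Finset.sum_congr rfl fun x _ => by ring]
    rw [Finset.sum_comm]
    refine Finset.sum_eq_zero fun x _ => ?_
    rw [← Finset.mul_sum, ← Finset.mul_sum]
    by_cases hx : x ∈ C
    · rw [show f 0 x = 0 by simp only [f]; rw [hLC 0 x hx, sub_self]]; ring
    · rw [h.block_square hM x.2 (fun e => hx ((h.mem_center_iff_four x).2 e)) (h.four_sq h.a_mem)]; ring

end Three

theorem Conf.not_inner {G : Type u} [Group G] [Fintype G] {S : Sylow 2 G} (h : Conf S) : ¬ Inner S := fun hi => by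
  obtain ⟨a, b, h3⟩ := h.exists_three hi
  exact h3.false

end CfsgLib.U34Char
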