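import Cfsg.Agent.Lib.U34Char.Three.Fusion
import Cfsg.Agent.Lib.PiClosedTwo.Columns

/-!
The principal block on `S` in the inner case: orthogonality and the isometry.
-/

set_option autoImplicit false
set_option linter.unusedSectionVars false
set_option linter.style.haveILetI false

namespace CfsgLib.U34Char

open Cfsg CfsgLib CfsgLib.CharTheory CfsgLib.Blocks CfsgLib.PiClosedTwo
open scoped ComplexConjugate

universe u

namespace Three

variable {G : Type u} [Group G] [Fintype G] {S : Sylow 2 G} {a b : G}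

/-- The data attached to a nontrivial element of `S`. -/
theorem cent_data (h : Three S a b) {u : G}
    (hu : u ∈ (S : Subgroup G)) (hu1 : u ≠ 1) :
    ∃ O : Subgroup (Subgroup.centralizer ({u} : Set G)), O.Normal ∧ ¬ 2 ∣ Nat.card O ∧
      (∀ q : Subgroup.centralizer ({u} : Set G), ∃ k, q ^ 2 ^ k ∈ O) ∧
      Nat.card (Subgroup.centralizer ({u} : Set G)) =
        Nat.card O * Nat.card {t : (S : Subgroup G) // (t : G) * u * (t : G)⁻¹ = u} := by
  haveI : Fact (Nat.Prime 2) := ⟨Nat.prime_two⟩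
  obtain ⟨O, hn, hodd, hdec⟩ := h.cent_element hu hu1
  haveI := hn
  refine ⟨O, hn, hodd, fun g => ?_, ?_⟩
  · obtain ⟨o, ho, s, hs', rfl⟩ := hdec g
    obtain ⟨k, hk⟩ := isTwoEl_of_sylow S hs'
    refine ⟨k, ?_⟩
    have h1 : s ^ 2 ^ k = 1 := Subtype.ext (by
      rw [SubmonoidClass.coe_pow, ← hk, pow_orderOf_eq_one, OneMemClass.coe_one])
    rw [← QuotientGroup.eq_one_iff, QuotientGroup.mk_pow, QuotientGroup.mk_mul, (QuotientGroup.eq_one_iff o).2 ho,
      one_mul, ← QuotientGroup.mk_pow, h1, QuotientGroup.mk_one]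
  · rw [← Nat.card_prod]
    refine (Nat.card_congr (Equiv.ofBijective (fun p : O × {t : (S : Subgroup G) // (t : G) * u * (t : G)⁻¹ = u} =>
      ((p.1 : Subgroup.centralizer ({u} : Set G)) * ⟨((p.2 : (S : Subgroup G)) : G),
        Subgroup.mem_centralizer_singleton_iff.2 (mul_inv_eq_iff_eq_mul.mp p.2.2)⟩)) ⟨?_, ?_⟩)).symm
    · rintro ⟨⟨o, ho⟩, ⟨⟨t, ht⟩, htu⟩⟩ ⟨⟨o', ho'⟩, ⟨⟨t', ht'⟩, htu'⟩⟩ e
      have e' : (o : G) * t = (o' : G) * t' := congrArg Subtype.val e
      have hm : t' * t⁻¹ = (((o'⁻¹ * o : Subgroup.centralizer ({u} : Set G))) : G) := by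
        rw [Subgroup.coe_mul, Subgroup.coe_inv, eq_inv_mul_iff_mul_eq, ← mul_assoc, ← e', mul_inv_cancel_right]
      have h1 : t' * t⁻¹ = 1 := eq_one_of_twoEl_odd (H := O.map (Subgroup.subtype _))
        (isTwoEl_of_sylow S (mul_mem ht' (inv_mem ht)))
        (by rwa [Subgroup.card_map_of_injective (Subgroup.subtype_injective _)])
        ⟨o'⁻¹ * o, mul_mem (inv_mem ho') ho, hm.symm⟩
      obtain rfl := mul_inv_eq_one.1 h1
      obtain rfl := Subtype.ext (mul_right_cancel e')
      rfl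
    · intro g
      obtain ⟨o, ho, s, hs', rfl⟩ := hdec g
      exact ⟨(⟨o, ho⟩, ⟨⟨(s : G), hs'⟩, mul_inv_eq_iff_eq_mul.mpr
        (Subgroup.mem_centralizer_singleton_iff.1 s.2)⟩), rfl⟩

/-- Orthogonality in the principal block at elements of `S`. -/
theorem block_orth (h : Three S a b) {M : Ideal AlgInt}
    (hM : IsPModular 2 M) {u : G} (hu : u ∈ (S : Subgroup G)) (hu1 : u ≠ 1) {v : G} (hv : IsTwoEl v)
    [Decidable (IsConj u v)] :
    ∑ χ : IrrCharacter G, ind (principalBlock M G) χ * (χ : G → ℂ) u * conj ((χ : G → ℂ) v) =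
      if IsConj u v then (Nat.card {t : (S : Subgroup G) // (t : G) * u * (t : G)⁻¹ = u} : ℂ) else 0 := by
  classical
  obtain ⟨O, hn, hodd, hq, hcard⟩ := h.cent_data hu hu1
  haveI := hn
  haveI := Fintype.ofFinite O
  obtain ⟨n, hn'⟩ := isTwoEl_of_sylow S hu
  obtain ⟨n', hn''⟩ := hv
  obtain ⟨e, he1, he0⟩ := Nat.chineseRemainder (n := 2 ^ (n + n')) (m := Nat.card O)
    ((Nat.prime_two.coprime_iff_not_dvd.mpr hodd).pow_left _) 1 0
  have hu0 : u ^ 2 ^ (n + n') = 1 := by
    rw [pow_add 2, pow_mul, ← hn', pow_orderOf_eq_one, one_pow]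
  have hv0 : v ^ 2 ^ (n + n') = 1 := by
    rw [add_comm n, pow_add 2, pow_mul, ← hn'', pow_orderOf_eq_one, one_pow]
  have he0' : Nat.card O ∣ e := Nat.modEq_zero_iff_dvd.mp he0
  have key : ∀ k : O, Nat.card {z : G // z * (u * ((k : Subgroup.centralizer ({u} : Set G)) : G)) * z⁻¹ = v} =
      if k = 1 then Nat.card {z : G // z * u * z⁻¹ = v} else 0 := by
    intro k
    split_ifs with hk
    · subst hk; simp [OneMemClass.coe_one]
    · haveI : IsEmpty {z : G // z * (u * ((k : Subgroup.centralizer ({u} : Set G)) : G)) * z⁻¹ = v} := by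
        refine ⟨fun ⟨z, hz⟩ => hk ?_⟩
        set k' := ((k : Subgroup.centralizer ({u} : Set G)) : G)
        have hc : Commute u k' :=
          (Subgroup.mem_centralizer_singleton_iff.1 (k : Subgroup.centralizer ({u} : Set G)).2).symm
        have hk0 : k' ^ Nat.card O = 1 := by
          rw [← SubmonoidClass.coe_pow, ← SubmonoidClass.coe_pow, pow_card_eq_one']; rfl
        have h1 := (pow_part (Commute.one_right v) hv0 (one_pow (Nat.card O)) he1 he0').2
        have h2 := congrArg (· ^ e) hz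
        simp only [conj_pow, (pow_part hc hu0 hk0 he1 he0').1, h1] at h2
        rw [← h2] at hz
        have h3 : z * (u * k') * z⁻¹ = z * u * z⁻¹ := hz
        have : k' = 1 := mul_eq_left.mp (mul_left_cancel (mul_right_cancel h3))
        exact Subtype.ext (Subtype.ext this)
      exact Nat.card_of_isEmpty
  have hsum : ∑ χ : IrrCharacter G, ind (principalBlock M G) χ * (χ : G → ℂ) u * conj ((χ : G → ℂ) v) =
      (Nat.card O : ℂ)⁻¹ * (Nat.card {z : G // z * u * z⁻¹ = v} : ℂ) := by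
    simp only [← block_avg hM (isTwoEl_of_sylow S hu) O hodd hq, Finset.mul_sum, Finset.sum_mul]
    rw [Finset.sum_comm, Finset.sum_congr rfl fun (k : O) _ => show
      ∑ χ : IrrCharacter G, (Nat.card O : ℂ)⁻¹ *
          (χ : G → ℂ) (u * ((k : Subgroup.centralizer ({u} : Set G)) : G)) * conj ((χ : G → ℂ) v) =
        (Nat.card O : ℂ)⁻¹ * ((if k = 1 then Nat.card {z : G // z * u * z⁻¹ = v} else 0 : ℕ) : ℂ) by
      rw [Finset.sum_congr rfl fun χ _ => mul_assoc _ _ _, ← Finset.mul_sum, CfsgLib.E8Solv.sum_irr_eq_card, key k],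
      ← Finset.mul_sum, ← Nat.cast_sum, Finset.sum_ite_eq' Finset.univ (1 : O)
        (fun _ => Nat.card {z : G // z * u * z⁻¹ = v}), if_pos (Finset.mem_univ _)]
  rw [hsum]
  split_ifs with hc
  · obtain ⟨c, rfl⟩ := isConj_iff.1 hc
    have h1 : Nat.card {z : G // z * u * z⁻¹ = c * u * c⁻¹} = Nat.card (Subgroup.centralizer ({u} : Set G)) := by
      refine (Nat.card_congr (Equiv.subtypeEquiv (Equiv.mulLeft c) fun z => ?_)).symm
      rw [Subgroup.mem_centralizer_singleton_iff, Equiv.coe_mulLeft]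
      constructor
      · intro e0
        calc c * z * u * (c * z)⁻¹ = c * (z * u) * z⁻¹ * c⁻¹ := by group
          _ = c * u * c⁻¹ := by rw [e0]; group
      · intro e0
        calc z * u = c⁻¹ * (c * z * u * (c * z)⁻¹) * c * z := by group
          _ = u * z := by rw [e0]; group
    rw [h1, hcard, Nat.cast_mul, inv_mul_cancel_left₀ (Nat.cast_ne_zero.2 Nat.card_pos.ne')]
  · haveI : IsEmpty {z : G // z * u * z⁻¹ = v} := ⟨fun z => hc (isConj_iff.2 ⟨z, z.2⟩)⟩
    rw [Nat.card_of_isEmpty (α := {z : G // z * u * z⁻¹ = v}), Nat.cast_zero, mul_zero]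

theorem block_orth_one (h : Three S a b) {M : Ideal AlgInt}
    (hM : IsPModular 2 M) {x : G} (hx : x ∈ (S : Subgroup G)) (hx1 : x ≠ 1) :
    ∑ χ : IrrCharacter G, ind (principalBlock M G) χ * conj ((χ : G → ℂ) x) * (χ : G → ℂ) 1 = 0 := by
  classical
  have h1 := h.block_orth hM (inv_mem hx) (inv_ne_one.2 hx1) (v := 1) isTwoEl_one
  rw [if_neg fun e => hx1 (inv_eq_one.mp (isConj_one_left.mp e))] at h1
  refine Eq.trans (Finset.sum_congr rfl fun χ _ => ?_) h1
  rw [irr_one_conj, irr_conjInv]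

/-- No product of two involutions meets the fibre of an element outside the four-group. -/
theorem block_square (h : Three S a b) {M : Ideal AlgInt}
    (hM : IsPModular 2 M) {x : G} (hx : x ∈ (S : Subgroup G)) (hxV : x ∉ four S) {t : G} (ht : t * t = 1) :
    ∑ χ : IrrCharacter G, ind (principalBlock M G) χ * conj ((χ : G → ℂ) x) *
      ((χ : G → ℂ) t * ((χ : G → ℂ) t / (χ : G → ℂ) 1)) = 0 := by
  classical
  have hx1 : x ≠ 1 := fun e => hxV (e ▸ one_mem _)
  obtain ⟨O, hn, hodd, hq, -⟩ := h.cent_data hx hx1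
  haveI := hn
  haveI := Fintype.ofFinite O
  obtain ⟨n, hn'⟩ := isTwoEl_of_sylow S hx
  obtain ⟨e, he1, he0⟩ := Nat.chineseRemainder (n := 2 ^ n) (m := Nat.card O)
    ((Nat.prime_two.coprime_iff_not_dvd.mpr hodd).pow_left _) 1 0
  have hx0 : x ^ 2 ^ n = 1 := by rw [← hn', pow_orderOf_eq_one]
  have hG : (Nat.card G : ℂ) ≠ 0 := Nat.cast_ne_zero.2 Nat.card_pos.ne'
  have hk : ∀ k : O, ∑ χ : IrrCharacter G, (χ : G → ℂ) t * ((χ : G → ℂ) t / (χ : G → ℂ) 1) *
      conj ((χ : G → ℂ) (x * ((k : Subgroup.centralizer ({x} : Set G)) : G))) = 0 := by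
    intro k
    set k' := ((k : Subgroup.centralizer ({x} : Set G)) : G)
    have hc : Commute x k' :=
      (Subgroup.mem_centralizer_singleton_iff.1 (k : Subgroup.centralizer ({x} : Set G)).2).symm
    have hk0 : k' ^ Nat.card O = 1 := by
      rw [← SubmonoidClass.coe_pow, ← SubmonoidClass.coe_pow, pow_card_eq_one']; rfl
    have hpow := (pow_part hc hx0 hk0 he1 (Nat.modEq_zero_iff_dvd.mp he0)).1
    refine mul_left_cancel₀ hG ?_
    rw [mul_zero, Finset.mul_sum, Finset.sum_congr rfl fun (χ : IrrCharacter G) _ => show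
      (Nat.card G : ℂ) * ((χ : G → ℂ) t * ((χ : G → ℂ) t / (χ : G → ℂ) 1) * conj ((χ : G → ℂ) (x * k'))) =
      ∑ g : G, (χ : G → ℂ) (g * t * g⁻¹ * t) * conj ((χ : G → ℂ) (x * k')) by
        rw [← Finset.sum_mul, ZStar.sum_conj_shift χ t t]; ring]
    rw [Finset.sum_comm]
    refine Finset.sum_eq_zero fun g _ => ?_
    rw [CfsgLib.E8Solv.sum_irr_eq_card]
    haveI : IsEmpty {z : G // z * (g * t * g⁻¹ * t) * z⁻¹ = x * k'} := ⟨fun ⟨z, hz⟩ => by
      set i := z * (g * t * g⁻¹) * z⁻¹ with hi'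
      set j := z * t * z⁻¹ with hj'
      have hi : i * i = 1 := by
        rw [hi', show z * (g * t * g⁻¹) * z⁻¹ * (z * (g * t * g⁻¹) * z⁻¹) = z * g * (t * t) * g⁻¹ * z⁻¹ by group, ht]
        group
      have hj : j * j = 1 := by
        rw [hj', show z * t * z⁻¹ * (z * t * z⁻¹) = z * (t * t) * z⁻¹ by group, ht]; group
      have hij : i * j = x * k' := by rw [← hz, hi', hj']; group
      have hinv : i * (x * k') * i⁻¹ = (x * k')⁻¹ := by
        rw [← hij, ← mul_assoc i i j, hi, one_mul, inv_eq_of_mul_eq_one_right hi]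
        exact eq_inv_of_mul_eq_one_left (by rw [mul_assoc, ← mul_assoc i, hi, one_mul, hj])
      have h2 := congrArg (· ^ e) hinv
      simp only [conj_pow, inv_pow, hpow] at h2
      exact h.no_invert hx hxV hi h2⟩
    rw [Nat.card_of_isEmpty, Nat.cast_zero]
  rw [Finset.sum_congr rfl fun (χ : IrrCharacter G) _ => show
    ind (principalBlock M G) χ * conj ((χ : G → ℂ) x) * ((χ : G → ℂ) t * ((χ : G → ℂ) t / (χ : G → ℂ) 1)) =
    ∑ k : O, (Nat.card O : ℂ)⁻¹ * ((χ : G → ℂ) t * ((χ : G → ℂ) t / (χ : G → ℂ) 1) *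
      conj ((χ : G → ℂ) (x * ((k : Subgroup.centralizer ({x} : Set G)) : G)))) by
    have hind : conj (ind (principalBlock M G) χ) = ind (principalBlock M G) χ := by
      by_cases hB : χ ∈ principalBlock M G
      · rw [ind_of_mem hB, map_one]
      · rw [ind_of_notMem hB, map_zero]
    rw [← hind, ← map_mul, ← block_avg hM (isTwoEl_of_sylow S hx) O hodd hq, map_mul, map_inv₀, map_natCast,
      map_sum, ← Finset.mul_sum, ← Finset.mul_sum, mul_assoc, mul_comm (∑ k : O, _)]]
  rw [Finset.sum_comm]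
  exact Finset.sum_eq_zero fun k _ => by rw [← Finset.mul_sum, hk k, mul_zero]

namespace Frame

variable {h : Three S a b} (F : Frame h)

/-- The automorphism of `S`. -/
def aut (i : ℕ) : (S : Subgroup G) →* (S : Subgroup G) where
  toFun x := ⟨F.act i x, F.act_mem i x.2⟩
  map_one' := Subtype.ext (by simp [act])
  map_mul' x y := Subtype.ext (by simp only [act, Subgroup.coe_mul]; group)

theorem coe_aut (i : ℕ) (x : (S : Subgroup G)) : ((F.aut i x : (S : Subgroup G)) : G) = F.act i x := rfl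

theorem aut_add (i j : ℕ) (x : (S : Subgroup G)) : F.aut (i + j) x = F.aut i (F.aut j x) :=
  Subtype.ext (F.act_add i j x)

theorem aut_three (x : (S : Subgroup G)) : F.aut 3 x = x := Subtype.ext (F.act_three x.2)

theorem aut_zero (x : (S : Subgroup G)) : F.aut 0 x = x := Subtype.ext (by simp [coe_aut, act])

theorem aut_injective (i : ℕ) : Function.Injective (F.aut i) := fun x y e =>
  Subtype.ext (mul_left_cancel (mul_right_cancel (congrArg Subtype.val e)))

/-- The column of a function on `S`. -/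
noncomputable def coef (M : Ideal AlgInt) (f : ↥(S : Subgroup G) → ℂ) (χ : IrrCharacter G) : ℂ :=
  ind (principalBlock M G) χ * ((64 : ℂ)⁻¹ * ∑ x : (S : Subgroup G), f x * conj ((χ : G → ℂ) x))

/-- The isometry. -/
theorem sum_coef_mul {M : Ideal AlgInt} (hM : IsPModular 2 M)
    (f g : ↥(S : Subgroup G) → ℂ) (hf : f 1 = 0) (hg : g 1 = 0) (hgc : IsClassFunction (S : Subgroup G) g) :
    ∑ χ : IrrCharacter G, coef (S := S) M f χ * conj (coef (S := S) M g χ) =
      ∑ i : Fin 3, (64 : ℂ)⁻¹ * ∑ x : (S : Subgroup G), f x * conj (g (F.aut i x)) := by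
  classical
  set B := ind (principalBlock M G)
  have hBB : ∀ χ, B χ * conj (B χ) = B χ := fun χ => by
    by_cases hB : χ ∈ principalBlock M G
    · simp [B, ind_of_mem hB]
    · simp [B, ind_of_notMem hB]
  set T := fun y x : (S : Subgroup G) =>
    ∑ χ : IrrCharacter G, B χ * (χ : G → ℂ) y * conj ((χ : G → ℂ) x) with hT
  have hexp : ∀ χ : IrrCharacter G, coef (S := S) M f χ * conj (coef (S := S) M g χ) =
      (64 : ℂ)⁻¹ * (64 : ℂ)⁻¹ * ∑ x : (S : Subgroup G), ∑ y : (S : Subgroup G),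
        f x * (conj (g y) * (B χ * (χ : G → ℂ) y * conj ((χ : G → ℂ) x))) := by
    intro χ
    simp only [coef, map_mul, map_inv₀, map_sum, Complex.conj_conj, map_ofNat]
    rw [show B χ * ((64 : ℂ)⁻¹ * ∑ x : (S : Subgroup G), f x * conj ((χ : G → ℂ) x)) *
      (conj (B χ) * ((64 : ℂ)⁻¹ * ∑ y : (S : Subgroup G), conj (g y) * (χ : G → ℂ) y)) =
      B χ * conj (B χ) * ((64 : ℂ)⁻¹ * (64 : ℂ)⁻¹) * ((∑ x : (S : Subgroup G), f x * conj ((χ : G → ℂ) x)) *
        ∑ y : (S : Subgroup G), conj (g y) * (χ : G → ℂ) y) by ring, hBB, Finset.sum_mul_sum, Finset.mul_sum,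
      Finset.mul_sum]
    refine Finset.sum_congr rfl fun x _ => ?_
    rw [Finset.mul_sum, Finset.mul_sum]
    exact Finset.sum_congr rfl fun y _ => by ring
  have hS64 : Fintype.card (S : Subgroup G) = 64 := by rw [← Nat.card_eq_fintype_card, h.sixty.card]
  have hinner : ∀ x : (S : Subgroup G), x ≠ 1 →
      ∑ y : (S : Subgroup G), conj (g y) * T y x = 64 * ∑ i : Fin 3, conj (g (F.aut i x)) := by
    intro x hx
    have hxG : (x : G) ≠ 1 := fun e => hx (Subtype.ext e)
    let P : Fin 3 × (S : Subgroup G) → (S : Subgroup G) := fun p => p.2 * F.aut p.1 x * p.2⁻¹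
    have hw : ∀ y : (S : Subgroup G), conj (g y) * T y x =
        ∑ p ∈ Finset.univ.filter (fun p => P p = y), conj (g y) := by
      intro y
      rw [Finset.sum_const, nsmul_eq_mul, mul_comm]
      congr 1
      rw [← Fintype.card_subtype, ← Nat.card_eq_fintype_card]
      by_cases hy : y = 1
      · subst hy
        haveI : IsEmpty {p // P p = 1} := ⟨fun p => hx (F.aut_injective p.1.1
          ((conj_eq_one_iff.mp p.2).trans (map_one _).symm))⟩
        rw [Nat.card_of_isEmpty, Nat.cast_zero]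
        have h1 := h.block_orth hM x.2 hxG (v := 1) isTwoEl_one
        rw [if_neg fun e => hxG (isConj_one_left.mp e)] at h1
        have h2 := congrArg conj h1
        rw [map_zero, map_sum] at h2
        refine Eq.trans (Finset.sum_congr rfl fun χ _ => ?_) h2
        rw [map_mul, map_mul, Complex.conj_conj, OneMemClass.coe_one]
        by_cases hB : χ ∈ principalBlock M G
        · simp only [B, ind_of_mem hB, map_one]; ring
        · simp [B, ind_of_notMem hB]
      · have hyG : (y : G) ≠ 1 := fun e => hy (Subtype.ext e)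
        rw [show T y x = _ from h.block_orth hM y.2 hyG (isTwoEl_of_sylow S x.2)]
        split_ifs with hc
        · obtain ⟨c, hc⟩ := isConj_iff.1 hc.symm
          obtain ⟨i, hi, t, ht, e⟩ := F.fusion x.2 y.2 hxG hc
          congr 1
          refine Nat.card_congr (Equiv.ofBijective (fun s : {s : (S : Subgroup G) // (s : G) * y * (s : G)⁻¹ = y} =>
            (⟨(⟨i, hi⟩, s.1 * ⟨t, ht⟩), Subtype.ext (by
              show (s.1 : G) * t * F.act i x * ((s.1 : G) * t)⁻¹ = y
              rw [show (s.1 : G) * t * F.act i x * ((s.1 : G) * t)⁻¹ = (s.1 : G) * (t * F.act i x * t⁻¹) * (s.1 : G)⁻¹ by group,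
                ← e, s.2])⟩ : {p // P p = y})) ⟨?_, ?_⟩)
          · intro s s' e0
            exact Subtype.ext (mul_right_cancel (congrArg (fun p : {p // P p = y} => p.1.2) e0))
          · rintro ⟨⟨j, s⟩, hp⟩
            have hp' : (s : G) * F.act j x * (s : G)⁻¹ = y := congrArg Subtype.val hp
            obtain rfl : j = ⟨i, hi⟩ := Fin.ext (F.index_unique x.2 hxG s.2 ht j.2 hi (hp'.trans e))
            refine ⟨⟨s * ⟨t, ht⟩⁻¹, ?_⟩, Subtype.ext (Prod.ext rfl (inv_mul_cancel_right _ _))⟩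
            show (s : G) * t⁻¹ * y * ((s : G) * t⁻¹)⁻¹ = y
            rw [e]
            simp only at hp' ⊢
            rw [show (s : G) * t⁻¹ * (t * F.act i x * t⁻¹) * ((s : G) * t⁻¹)⁻¹ = (s : G) * F.act i x * (s : G)⁻¹ by group,
              hp', e]
        · haveI : IsEmpty {p // P p = y} := ⟨fun ⟨⟨j, s⟩, hp⟩ => hc (isConj_iff.2 ⟨(s : G) * F.y ^ (j : ℕ),
            (show (s : G) * F.y ^ (j : ℕ) * x * ((s : G) * F.y ^ (j : ℕ))⁻¹ = (s : G) * F.act j x * (s : G)⁻¹ by
              rw [act]; group).trans (congrArg Subtype.val hp)⟩).symm⟩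
          rw [Nat.card_of_isEmpty, Nat.cast_zero]
    rw [Finset.sum_congr rfl fun y _ => hw y]
    rw [Finset.sum_congr rfl fun y _ => Finset.sum_congr rfl fun p (hp : p ∈ _) =>
      show conj (g y) = conj (g (F.aut p.1 x)) by rw [← (Finset.mem_filter.1 hp).2, hgc (F.aut p.1 x) p.2],
      Finset.sum_fiberwise Finset.univ P fun p => conj (g (F.aut p.1 x)), Fintype.sum_prod_type, Finset.mul_sum]
    exact Finset.sum_congr rfl fun i _ => by dsimp only; rw [Finset.sum_const, Finset.card_univ, hS64, nsmul_eq_mul]; norm_num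
  calc ∑ χ : IrrCharacter G, coef (S := S) M f χ * conj (coef (S := S) M g χ)
      = (64 : ℂ)⁻¹ * (64 : ℂ)⁻¹ * ∑ x : (S : Subgroup G), f x * ∑ y : (S : Subgroup G), conj (g y) * T y x := by
        rw [Finset.sum_congr rfl fun χ _ => hexp χ, ← Finset.mul_sum, Finset.sum_comm]
        congr 1
        refine Finset.sum_congr rfl fun x _ => ?_
        rw [Finset.sum_comm, Finset.mul_sum]
        refine Finset.sum_congr rfl fun y _ => ?_
        rw [← Finset.mul_sum, ← Finset.mul_sum]
    _ = _ := by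
        rw [← Finset.mul_sum, Finset.sum_comm (s := (Finset.univ : Finset (Fin 3))), Finset.mul_sum, Finset.mul_sum]
        refine Finset.sum_congr rfl fun x _ => ?_
        rw [← Finset.mul_sum]
        by_cases hx : x = 1
        · subst hx; rw [hf]; ring
        · rw [hinner x hx]; ring

end Frame

end Three

end CfsgLib.U34Char
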