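import Cfsg.Agent.Lib.U34Char.Auto

/-!
Fusion of `2`-elements when the centralizer of the four-group induces inner automorphisms.
-/

set_option autoImplicit false
set_option linter.unusedSectionVars false
set_option linter.style.haveILetI false

namespace CfsgLib.U34Char

open Subgroup Cfsg CfsgLib.HallE8 CfsgLib.ZCReduction CfsgLib.PiClosedTwo
open scoped commutatorElement

universe u

variable {G : Type u} [Group G] [Finite G]

/-- The configuration with inner action, with two named involutions of `S`. -/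
structure Three (S : Sylow 2 G) (a b : G) : Prop where
  conf : Conf S
  inner : Inner S
  ha : IsCentInv S a
  hb : IsCentInv S b
  ne : a ≠ b

theorem Conf.exists_three {S : Sylow 2 G} (h : Conf S) (hi : Inner S) : ∃ a b, Three S a b := by
  obtain ⟨a, ha, ha1⟩ := h.exists_ne_one
  obtain ⟨y, hy, -, hmove⟩ := h.exists_mover
  refine ⟨a, y * a * y⁻¹, h, hi, h.four_cases ha ha1, h.four_cases ((mem_normalizer_iff.mp
    (h.sylow_normalizer_le hy) a).mp ha) (fun e => ha1 (conj_eq_one_iff.mp e)), (hmove a ha ha1).symm⟩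

namespace Three

variable {S : Sylow 2 G} {a b : G}

theorem sixty (h : Three S a b) : CfsgLib.SuzukiTwo.Sixty (S : Subgroup G) := h.conf.hs

theorem four_le (h : Three S a b) : four S ≤ (S : Subgroup G) := h.conf.four_le

theorem four_sq (h : Three S a b) {x : G} (hx : x ∈ four S) : x * x = 1 := h.conf.four_sq hx

theorem four_comm (h : Three S a b) {x s : G} (hx : x ∈ four S) (hs : s ∈ (S : Subgroup G)) : x * s = s * x :=
  h.conf.four_comm hx hs

theorem mem_four_of_sq (h : Three S a b) {x : G} (hx : x ∈ (S : Subgroup G)) (h2 : x * x = 1) : x ∈ four S :=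
  h.conf.mem_four_of_sq hx h2

theorem card_four (h : Three S a b) : Nat.card (four S) = 4 := h.conf.card_four

theorem four_cases (h : Three S a b) {x : G} (hx : x ∈ four S) (h1 : x ≠ 1) : IsCentInv S x :=
  h.conf.four_cases hx h1

theorem sq_mem (h : Three S a b) {s : G} (hs : s ∈ (S : Subgroup G)) : s * s ∈ four S := h.conf.sq_mem hs

theorem sylow_normalizer_le (h : Three S a b) :
    normalizer ((S : Subgroup G) : Set G) ≤ normalizer (four S : Set G) := h.conf.sylow_normalizer_le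

theorem mem_center_iff_four (h : Three S a b) (x : (S : Subgroup G)) :
    x ∈ center (S : Subgroup G) ↔ (x : G) ∈ four S := h.conf.center_iff x

theorem a_mem (h : Three S a b) : a ∈ four S := h.mem_four_of_sq h.ha.1 h.ha.2.1.2

theorem b_mem (h : Three S a b) : b ∈ four S := h.mem_four_of_sq h.hb.1 h.hb.2.1.2

theorem mem_four (h : Three S a b) {x : G} : x ∈ four S ↔ x = 1 ∨ x = a ∨ x = b ∨ x = a * b := by
  classical
  refine ⟨fun hx => ?_, ?_⟩
  · by_contra hc
    push Not at hc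
    obtain ⟨c1, c2, c3, c4⟩ := hc
    have hab1 : a * b ≠ 1 := fun e => h.ne ((eq_inv_of_mul_eq_one_left e).trans
      (inv_eq_of_mul_eq_one_right h.hb.2.1.2))
    have hsub : ({1, a, b, a * b, x} : Finset G) ⊆ (Set.toFinite (four S : Set G)).toFinset := by
      intro z hz
      simp only [Finset.mem_insert, Finset.mem_singleton] at hz
      rw [Set.Finite.mem_toFinset]
      rcases hz with rfl | rfl | rfl | rfl | rfl
      exacts [one_mem _, h.a_mem, h.b_mem, mul_mem h.a_mem h.b_mem, hx]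
    have hcard := Finset.card_le_card hsub
    rw [← Set.ncard_eq_toFinset_card, ← Nat.card_coe_set_eq, SetLike.coe_sort_coe, h.card_four] at hcard
    rw [Finset.card_insert_of_notMem (by simp [h.ha.2.1.1.symm, h.hb.2.1.1.symm, hab1.symm, Ne.symm c1]),
      Finset.card_insert_of_notMem (by simp [h.ne, Ne.symm c2, h.hb.2.1.1]),
      Finset.card_insert_of_notMem (by simp [h.ha.2.1.1, Ne.symm c3]),
      Finset.card_insert_of_notMem (by simp [Ne.symm c4]), Finset.card_singleton] at hcard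
    omega
  · rintro (rfl | rfl | rfl | rfl)
    exacts [one_mem _, h.a_mem, h.b_mem, mul_mem h.a_mem h.b_mem]

/-- Odd elements normalizing `S` and centralizing the four-group centralize `S`. -/
theorem odd_cent (h : Three S a b) {g : G} (hg : g ∈ baseGrp S) (hodd : Odd (orderOf g)) {s : G}
    (hs : s ∈ (S : Subgroup G)) : g * s = s * g := by
  obtain ⟨u, hu, huV⟩ := h.conf.exists_noncentral
  exact (mem_centralizer_iff.mp (h.conf.cent_of_fix_coset hg.1 hg.2 hodd hu huV (h.inner g hg u hu)) s hs).symm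

/-- The centralizer of an involution of `S` is its core times `S`. -/
theorem cent_decomp (h : Three S a b) {v : G} (hv : v ∈ four S)
    (hv1 : v ≠ 1) {g : G} (hg : g ∈ centralizer ({v} : Set G)) :
    ∃ o ∈ theta v, ∃ s ∈ (S : Subgroup G), g = o * s := by
  obtain ⟨o, ho, n, hn, rfl⟩ := h.conf.cent_base hv hv1 hg
  obtain ⟨u, hu, huV⟩ := h.conf.exists_noncentral
  obtain ⟨o', ho', s, hs, rfl⟩ := h.conf.exists_core_inner hn hu huV (h.inner n hn u hu) hv hv1
  exact ⟨o * o', mul_mem ho ho', s, hs, (mul_assoc _ _ _).symm⟩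

theorem eq_of_mod_theta (h : Three S a b) {z o x y : G} (ho : o ∈ theta z) (hx : x ∈ (S : Subgroup G))
    (hy : y ∈ (S : Subgroup G)) (hxc : x ∈ centralizer ({z} : Set G)) (e : o * x * o⁻¹ = y) : x = y :=
  h.conf.eq_of_mod_theta ho hx hy hxc e

/-- A frame: an element of `N(S)` inducing an automorphism of order three. -/
structure Frame (h : Three S a b) where
  y : G
  norm : y ∈ normalizer ((S : Subgroup G) : Set G)
  cube : ∀ s ∈ (S : Subgroup G), y ^ 3 * s = s * y ^ 3
  move : ∀ v ∈ four S, v ≠ 1 → y * v * y⁻¹ ≠ v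

theorem exists_frame (h : Three S a b) : Nonempty (Frame h) := by
  obtain ⟨y, hy, hyodd, hmove⟩ := h.conf.exists_mover
  set V := four S
  have hyV := h.sylow_normalizer_le hy
  have hy3 : y ^ 3 * a * (y ^ 3)⁻¹ = a := by
    set σ : G → G := fun v => y * v * y⁻¹
    have hσV : ∀ v ∈ V, σ v ∈ V := fun v hv => (mem_normalizer_iff.mp hyV v).mp hv
    have hne1 : ∀ v, v ≠ 1 → σ v ≠ 1 := fun v hv e => hv (conj_eq_one_iff.mp e)
    have inj : ∀ v v', σ v = σ v' → v = v' := fun v v' e => mul_left_cancel (mul_right_cancel e)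
    have g1 := hne1 a h.ha.2.1.1
    have g2 := hne1 _ g1
    have g3 := hne1 _ g2
    have n1 : σ a ≠ a := hmove a h.a_mem h.ha.2.1.1
    have n2 : σ (σ a) ≠ σ a := hmove _ (hσV a h.a_mem) g1
    have n3 : σ (σ (σ a)) ≠ σ (σ a) := hmove _ (hσV _ (hσV a h.a_mem)) g2
    have n4 : σ (σ a) ≠ a := fun e => by
      obtain ⟨j, hj⟩ := hyodd
      have h2 : Commute (y ^ 2) a := (mul_inv_eq_iff_eq_mul.mp (Eq.trans (by
        show y ^ 2 * a * (y ^ 2)⁻¹ = y * (y * a * y⁻¹) * y⁻¹
        rw [pow_two]; group) e) : y ^ 2 * a = a * y ^ 2)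
      have h7 := h2.pow_left (j + 1)
      rw [← pow_mul, show 2 * (j + 1) = (2 * j + 1) + 1 by ring, pow_succ, ← hj, pow_orderOf_eq_one, one_mul] at h7
      exact n1 (by show y * a * y⁻¹ = a; rw [h7.eq, mul_inv_cancel_right])
    have n5 : σ (σ (σ a)) ≠ σ a := fun e => n4 (inj _ _ e)
    by_contra e
    have e' : σ (σ (σ a)) ≠ a := fun e0 => e (Eq.trans (by
      show y ^ 3 * a * (y ^ 3)⁻¹ = y * (y * (y * a * y⁻¹) * y⁻¹) * y⁻¹
      rw [pow_succ, pow_two]; group) e0)
    classical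
    have hsub : ({1, a, σ a, σ (σ a), σ (σ (σ a))} : Finset G) ⊆ (Set.toFinite (V : Set G)).toFinset := by
      intro v hv
      simp only [Finset.mem_insert, Finset.mem_singleton] at hv
      rw [Set.Finite.mem_toFinset]
      rcases hv with rfl | rfl | rfl | rfl | rfl
      exacts [one_mem V, h.a_mem, hσV a h.a_mem, hσV _ (hσV a h.a_mem), hσV _ (hσV _ (hσV a h.a_mem))]
    have hc := Finset.card_le_card hsub
    rw [← Set.ncard_eq_toFinset_card, ← Nat.card_coe_set_eq, SetLike.coe_sort_coe, h.card_four] at hc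
    rw [Finset.card_insert_of_notMem (by simp [h.ha.2.1.1.symm, g1.symm, g2.symm, g3.symm]),
      Finset.card_insert_of_notMem (by simp [n1.symm, n4.symm, e'.symm]),
      Finset.card_insert_of_notMem (by simp [n2.symm, n5.symm]),
      Finset.card_insert_of_notMem (by simp [n3.symm]), Finset.card_singleton] at hc
    omega
  have ho3 : Odd (orderOf (y ^ 3)) := Odd.of_dvd_nat hyodd (orderOf_pow_dvd _)
  have hC3 : y ^ 3 ∈ centralizer (V : Set G) :=
    h.conf.cent_of_fix (pow_mem hyV 3) ho3 h.a_mem h.ha.2.1.1 (mul_inv_eq_iff_eq_mul.mp hy3)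
  exact ⟨⟨y, hy, fun s hs' => h.odd_cent ⟨pow_mem hy 3, hC3⟩ ho3 hs', hmove⟩⟩

namespace Frame

variable {h : Three S a b} (F : Frame h)

/-- The automorphism. -/
def act (i : ℕ) (s : G) : G := F.y ^ i * s * (F.y ^ i)⁻¹

theorem act_mem (i : ℕ) {s : G} (hs' : s ∈ (S : Subgroup G)) : F.act i s ∈ (S : Subgroup G) :=
  (mem_normalizer_iff.mp (pow_mem F.norm i) s).mp hs'

theorem act_add (i j : ℕ) (s : G) : F.act (i + j) s = F.act i (F.act j s) := by
  unfold act; rw [pow_add]; group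

theorem act_three {s : G} (hs' : s ∈ (S : Subgroup G)) : F.act 3 s = s := by
  rw [act, F.cube s hs', mul_inv_cancel_right]

theorem act_four_mem (i : ℕ) {v : G} (hv : v ∈ four S) : F.act i v ∈ four S :=
  (mem_normalizer_iff.mp (h.sylow_normalizer_le (pow_mem F.norm i)) v).mp hv

theorem act_move {i : ℕ} (hi0 : i ≠ 0) (hi : i < 3) {v : G} (hv : v ∈ four S) (hv1 : v ≠ 1) :
    F.act i v ≠ v := by
  intro e
  rcases (by omega : i = 1 ∨ i = 2) with rfl | rfl
  · exact F.move v hv hv1 (by simpa [act] using e)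
  · refine F.move v hv hv1 ?_
    have h1 : F.act 1 (F.act 2 v) = v := by rw [← F.act_add]; exact F.act_three (h.four_le hv)
    rw [e] at h1
    simpa [act] using h1

theorem moves_coset {i : ℕ} (hi0 : i ≠ 0) (hi : i < 3) {s : G}
    (hs' : s ∈ (S : Subgroup G)) (e : F.act i s * s⁻¹ ∈ four S) : s ∈ four S := by
  refine h.mem_four_of_sq hs' ?_
  by_contra h1
  refine F.act_move hi0 hi (h.sq_mem hs') h1 ?_
  set d := F.act i s * s⁻¹ with hd
  have e1 : F.act i s = d * s := by rw [hd, inv_mul_cancel_right]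
  have e2 : F.act i (s * s) = F.act i s * F.act i s := by unfold act; group
  rw [e2, e1]
  calc d * s * (d * s) = d * (s * d) * s := by group
    _ = d * (d * s) * s := by rw [h.four_comm e hs']
    _ = d * d * (s * s) := by group
    _ = s * s := by rw [h.four_sq e, one_mul]

/-- The action of the normalizer of `S`. -/
theorem normalizer_action {n : G}
    (hn : n ∈ normalizer ((S : Subgroup G) : Set G)) :
    ∃ i < 3, ∃ t ∈ (S : Subgroup G), ∀ s ∈ (S : Subgroup G), n * s * n⁻¹ = t * F.act i s * t⁻¹ := by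
  haveI : Fact (Nat.Prime 2) := ⟨Nat.prime_two⟩
  set V := four S
  have hnV := h.sylow_normalizer_le hn
  obtain ⟨i, hi, hia⟩ : ∃ i < 3, n * a * n⁻¹ = F.act i a := by
    by_contra hc
    push Not at hc
    classical
    have g0 : F.act 0 a = a := by simp [act]
    have hn1 : ∀ j, F.act j a ≠ 1 := fun j e => h.ha.2.1.1 (conj_eq_one_iff.mp e)
    have n1 := F.act_move (i := 1) (by norm_num) (by norm_num) h.a_mem h.ha.2.1.1
    have n2 := F.act_move (i := 2) (by norm_num) (by norm_num) h.a_mem h.ha.2.1.1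
    have n3 : F.act 2 a ≠ F.act 1 a := fun e => F.act_move (i := 1) (by norm_num) (by norm_num)
      (F.act_four_mem 1 h.a_mem) (hn1 1) ((F.act_add 1 1 a).symm.trans e)
    have hna1 : n * a * n⁻¹ ≠ 1 := fun e => h.ha.2.1.1 (conj_eq_one_iff.mp e)
    have hsub : ({1, a, F.act 1 a, F.act 2 a, n * a * n⁻¹} : Finset G) ⊆ (Set.toFinite (V : Set G)).toFinset := by
      intro v hv
      simp only [Finset.mem_insert, Finset.mem_singleton] at hv
      rw [Set.Finite.mem_toFinset]
      rcases hv with rfl | rfl | rfl | rfl | rfl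
      exacts [one_mem V, h.a_mem, F.act_four_mem 1 h.a_mem, F.act_four_mem 2 h.a_mem,
        (mem_normalizer_iff.mp hnV a).mp h.a_mem]
    have hcard := Finset.card_le_card hsub
    rw [← Set.ncard_eq_toFinset_card, ← Nat.card_coe_set_eq, SetLike.coe_sort_coe, h.card_four] at hcard
    have m0 := hc 0 (by norm_num)
    rw [g0] at m0
    rw [Finset.card_insert_of_notMem (by simp [h.ha.2.1.1.symm, (hn1 1).symm, (hn1 2).symm, hna1.symm]),
      Finset.card_insert_of_notMem (by simp [n1.symm, n2.symm, m0.symm]),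
      Finset.card_insert_of_notMem (by simp [n3.symm, (hc 1 (by norm_num)).symm]),
      Finset.card_insert_of_notMem (by simp [(hc 2 (by norm_num)).symm]), Finset.card_singleton] at hcard
    omega
  refine ⟨i, hi, ?_⟩
  set m := (F.y ^ i)⁻¹ * n with hm
  have hmS : m ∈ normalizer ((S : Subgroup G) : Set G) := mul_mem (inv_mem (pow_mem F.norm i)) hn
  have hma : m * a = a * m := by
    refine mul_inv_eq_iff_eq_mul.mp ?_
    rw [show m * a * m⁻¹ = (F.y ^ i)⁻¹ * (n * a * n⁻¹) * F.y ^ i by rw [hm]; group, hia, act]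
    group
  obtain ⟨k, q, hq, hk⟩ := Nat.exists_eq_two_pow_mul_odd (orderOf_pos m).ne'
  set w := m ^ 2 ^ k
  have hwodd : Odd (orderOf w) := Odd.of_dvd_nat hq (orderOf_dvd_of_pow_eq_one (by rw [← pow_mul, ← hk, pow_orderOf_eq_one]))
  have hwS : w ∈ normalizer ((S : Subgroup G) : Set G) := pow_mem hmS _
  have hwC : w ∈ centralizer (V : Set G) := h.conf.cent_of_fix (h.sylow_normalizer_le hwS) hwodd h.a_mem h.ha.2.1.1
    ((show Commute m a from hma).pow_left _).eq
  -- the odd part centralizes `S`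
  have hwc : ∀ s ∈ (S : Subgroup G), w * s = s * w := fun s hs' => h.odd_cent ⟨hwS, hwC⟩ hwodd hs'
  have hm2 : m ^ q ∈ (S : Subgroup G) := by
    refine mem_of_twoEl_normalizer S ?_ (pow_mem hmS q)
    obtain ⟨j, -, hj⟩ := (Nat.dvd_prime_pow Nat.prime_two).mp (orderOf_dvd_of_pow_eq_one
      (show (m ^ q) ^ 2 ^ k = 1 by rw [← pow_mul, mul_comm, ← hk, pow_orderOf_eq_one]))
    exact ⟨j, hj⟩
  have hcopq : Nat.Coprime (2 ^ k) q := (Nat.coprime_two_left.mpr hq).pow_left k
  set A := w ^ Nat.gcdA (2 ^ k) q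
  set B := (m ^ q) ^ Nat.gcdB (2 ^ k) q
  have hmAB : m = B * A := by
    show m = (m ^ q) ^ Nat.gcdB (2 ^ k) q * (m ^ 2 ^ k) ^ Nat.gcdA (2 ^ k) q
    rw [← zpow_natCast m q, ← zpow_natCast m (2 ^ k), ← zpow_mul, ← zpow_mul, ← zpow_add, add_comm,
      ← Nat.gcd_eq_gcd_ab, hcopq.gcd_eq_one, Nat.cast_one, zpow_one]
  have hBS : B ∈ (S : Subgroup G) := Subgroup.zpow_mem _ hm2 _
  refine ⟨F.act i B, F.act_mem i hBS, fun s hs' => ?_⟩
  have hA : A * s * A⁻¹ = s := mul_inv_eq_iff_eq_mul.mpr ((show Commute w s from hwc s hs').zpow_left _).eq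
  calc n * s * n⁻¹ = F.y ^ i * (m * s * m⁻¹) * (F.y ^ i)⁻¹ := by rw [hm]; group
    _ = F.y ^ i * (B * (A * s * A⁻¹) * B⁻¹) * (F.y ^ i)⁻¹ := by rw [hmAB]; group
    _ = F.act i B * F.act i s * (F.act i B)⁻¹ := by rw [hA, act, act]; group

/-- Fusion of elements of `S`. -/
theorem fusion {x x' g : G} (hx : x ∈ (S : Subgroup G))
    (hx' : x' ∈ (S : Subgroup G)) (hx1 : x ≠ 1) (e : g * x * g⁻¹ = x') :
    ∃ i < 3, ∃ t ∈ (S : Subgroup G), x' = t * F.act i x * t⁻¹ := by
  suffices key : ∃ n ∈ normalizer ((S : Subgroup G) : Set G), n * x * n⁻¹ = x' by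
    obtain ⟨n, hn, hne⟩ := key
    obtain ⟨i, hi, t, ht, ht'⟩ := F.normalizer_action hn
    exact ⟨i, hi, t, ht, hne.symm.trans (ht' x hx)⟩
  have inv : ∀ z z' k : G, z ∈ four S → z ≠ 1 → z' ∈ (S : Subgroup G) → k * z * k⁻¹ = z' →
      ∃ n ∈ normalizer ((S : Subgroup G) : Set G), n * z * n⁻¹ = z' := by
    intro z z' k hz hz1 hz' ek
    have hzc := h.four_cases hz hz1
    have hi' : IsInvol z' := ek ▸ hzc.2.1.conj k
    have hzc' := h.four_cases (h.mem_four_of_sq hz' hi'.2) hi'.1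
    obtain ⟨c, hc, hcn⟩ := exists_cent_mul_normalizer S hzc hzc' ek
    refine ⟨c * k, hcn, ?_⟩
    rw [show c * k * z * (c * k)⁻¹ = c * (k * z * k⁻¹) * c⁻¹ by group, ek, commute_of_mem_cent hc, mul_inv_cancel_right]
  by_cases h2 : x * x = 1
  · exact inv x x' g (h.mem_four_of_sq hx h2) hx1 hx' e
  set z := x * x
  set z' := x' * x'
  have hzV := h.sq_mem hx
  have ez : g * z * g⁻¹ = z' := by show g * (x * x) * g⁻¹ = x' * x'; rw [← e]; group
  obtain ⟨n, hn, hne⟩ := inv z z' g hzV h2 (mul_mem hx' hx') ez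
  have hz'V : z' ∈ four S := h.sq_mem hx'
  have hz'1 : z' ≠ 1 := fun e0 => h2 (conj_eq_one_iff.mp (hne.trans e0))
  have hgn : g * n⁻¹ ∈ centralizer ({z'} : Set G) := mem_cent_of_commute (mul_inv_eq_iff_eq_mul.mp (by
    conv_lhs => rw [← hne]
    rw [show g * n⁻¹ * (n * z * n⁻¹) * (g * n⁻¹)⁻¹ = g * z * g⁻¹ by group, ez]))
  obtain ⟨o, ho, s, hs', eos⟩ := h.cent_decomp hz'V hz'1 hgn
  refine ⟨s * n, mul_mem (le_normalizer hs') hn, ?_⟩
  refine h.eq_of_mod_theta (z := z') ho ((mem_normalizer_iff.mp (mul_mem (le_normalizer hs') hn) x).mp hx) hx'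
    (mem_cent_of_commute (h.four_comm hz'V ((mem_normalizer_iff.mp (mul_mem (le_normalizer hs') hn) x).mp hx)).symm) ?_
  rw [← e, show o * (s * n * x * (s * n)⁻¹) * o⁻¹ = o * s * n * x * (o * s * n)⁻¹ by group, ← eos, inv_mul_cancel_right]

theorem index_unique {x t t' : G} (hx : x ∈ (S : Subgroup G))
    (hx1 : x ≠ 1) (ht : t ∈ (S : Subgroup G)) (ht' : t' ∈ (S : Subgroup G)) {i j : ℕ} (hi : i < 3) (hj : j < 3)
    (e : t * F.act i x * t⁻¹ = t' * F.act j x * t'⁻¹) : i = j := by
  obtain ⟨z, hz, hz1, hzp⟩ : ∃ z ∈ four S, z ≠ 1 ∧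
      ∀ k, ∀ r ∈ (S : Subgroup G), (z = x ∧ True) ∨ (z = x * x ∧
        r * F.act k z * r⁻¹ = (r * F.act k x * r⁻¹) * (r * F.act k x * r⁻¹)) := by
    by_cases h2 : x * x = 1
    · exact ⟨x, h.mem_four_of_sq hx h2, hx1, fun _ _ _ => Or.inl ⟨rfl, trivial⟩⟩
    · exact ⟨x * x, h.sq_mem hx, h2, fun k r _ => Or.inr ⟨rfl, by unfold act; group⟩⟩
  have hfix : ∀ k, ∀ r ∈ (S : Subgroup G), r * F.act k z * r⁻¹ = F.act k z := fun k r hr => by
    rw [← h.four_comm (F.act_four_mem k hz) hr, mul_inv_cancel_right]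
  have ez : F.act i z = F.act j z := by
    rcases hzp i t ht with ⟨rfl, -⟩ | ⟨hzx, e1⟩
    · rw [← hfix i t ht, e, hfix j t' ht']
    · rcases hzp j t' ht' with ⟨hzx', -⟩ | ⟨-, e2⟩
      · exact absurd (mul_eq_left.mp (hzx.symm.trans hzx')) hx1
      · rw [← hfix i t ht, e1, e, ← e2, hfix j t' ht']
  by_contra hne
  rcases Nat.lt_or_gt_of_ne hne with hl | hl
  · refine F.act_move (i := j - i) (by omega) (by omega) (F.act_four_mem i hz) (fun e0 => hz1 (conj_eq_one_iff.mp e0)) ?_
    rw [← F.act_add, show j - i + i = j by omega, ez]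
  · refine F.act_move (i := i - j) (by omega) (by omega) (F.act_four_mem j hz) (fun e0 => hz1 (conj_eq_one_iff.mp e0)) ?_
    rw [← F.act_add, show i - j + j = i by omega, ez]

end Frame

/-- The centralizer of a nontrivial element of `S` is an odd normal subgroup times its centralizer in `S`. -/
theorem cent_element (h : Three S a b) {u : G}
    (hu : u ∈ (S : Subgroup G)) (hu1 : u ≠ 1) :
    ∃ O : Subgroup (centralizer ({u} : Set G)), O.Normal ∧ ¬ 2 ∣ Nat.card O ∧
      (∀ g : centralizer ({u} : Set G), ∃ o ∈ O, ∃ s : centralizer ({u} : Set G), (s : G) ∈ (S : Subgroup G) ∧ g = o * s) := by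
  obtain ⟨z, hz, hz1, huz, hCu⟩ : ∃ z ∈ four S, z ≠ 1 ∧ u * z = z * u ∧
      centralizer ({u} : Set G) ≤ centralizer ({z} : Set G) := by
    by_cases h2 : u * u = 1
    · exact ⟨u, h.mem_four_of_sq hu h2, hu1, rfl, le_rfl⟩
    · exact ⟨u * u, h.sq_mem hu, h2, (mul_assoc _ _ _).symm, fun g hg => mem_cent_of_commute
        ((show Commute g u from commute_of_mem_cent hg).mul_right (commute_of_mem_cent hg)).eq⟩
  set C := centralizer ({u} : Set G)
  have huC : u ∈ centralizer ({z} : Set G) := mem_cent_of_commute huz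
  refine ⟨(theta z).subgroupOf C, ⟨fun o ho g => (mem_normalizer_iff.mp (theta_normalized z (hCu g.2)) _).mp ho⟩,
    fun e => not_two_dvd_theta z (e.trans (card_comap_dvd_of_injective (theta z) C.subtype C.subtype_injective)),
    fun g => ?_⟩
  obtain ⟨o, ho, s, hs', e⟩ := h.cent_decomp hz hz1 (hCu g.2)
  have hsu : s * u * s⁻¹ ∈ (S : Subgroup G) := mul_mem (mul_mem hs' hu) (inv_mem hs')
  have h1 : s * u * s⁻¹ = u := h.eq_of_mod_theta ho hsu hu
    (mem_cent_of_commute (h.four_comm hz hsu).symm) (by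
      rw [show o * (s * u * s⁻¹) * o⁻¹ = o * s * u * (o * s)⁻¹ by group, ← e, commute_of_mem_cent g.2,
        mul_inv_cancel_right])
  have hsC : s ∈ C := mem_cent_of_commute (mul_inv_eq_iff_eq_mul.mp h1)
  have hoC : o ∈ C := by
    have := mul_mem g.2 (inv_mem hsC)
    rwa [e, mul_inv_cancel_right] at this
  exact ⟨⟨o, hoC⟩, ho, ⟨s, hsC⟩, hs', Subtype.ext e⟩

theorem no_invert (h : Three S a b) {u i : G} (hu : u ∈ (S : Subgroup G)) (huV : u ∉ four S) (hi : i * i = 1) :
    i * u * i⁻¹ ≠ u⁻¹ := h.conf.no_invert hu huV hi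

end Three

end CfsgLib.U34Char
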