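import Cfsg.Agent.Lib.U34Char.Three.Columns
import Cfsg.Agent.Lib.PiClosedTwo.Linear

/-!
The characters of `S` that are used in the inner case.
-/

set_option autoImplicit false
set_option linter.unusedSectionVars false
set_option linter.style.haveILetI false

namespace CfsgLib.U34Char

open Cfsg CfsgLib CfsgLib.CharTheory CfsgLib.Blocks CfsgLib.PiClosedTwo
open scoped ComplexConjugate

universe u

namespace Three

variable {G : Type u} [Group G] [Fintype G] {S : Sylow 2 G} {a b : G}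

namespace Frame

variable {h : Three S a b} (F : Frame h)

theorem aut_center (i : ℕ) {z : (S : Subgroup G)}
    (hz : z ∈ Subgroup.center (S : Subgroup G)) : F.aut i z ∈ Subgroup.center (S : Subgroup G) :=
  (h.mem_center_iff_four _).2 (F.act_four_mem i ((h.mem_center_iff_four z).1 hz))

/-- The five linear characters. -/
theorem exists_linear :
    ∃ r : Fin 5 → ((S : Subgroup G) →* ℂˣ),
      (∀ j, ∀ z ∈ Subgroup.center (S : Subgroup G), r j z = 1) ∧
      (∀ j, r j ≠ 1) ∧
      (∀ j (i : Fin 3) k, (r j).comp (F.aut i) = r k → j = k ∧ i = 0) ∧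
      (∀ x, [Decidable (x ∈ Subgroup.center (S : Subgroup G))] →
        (1 : ℂ) + ∑ j, ∑ i : Fin 3, ((r j (F.aut i x) : ℂˣ) : ℂ) =
          if x ∈ Subgroup.center (S : Subgroup G) then 16 else 0) := by
  classical
  let Q := (S : Subgroup G) ⧸ Subgroup.center (S : Subgroup G)
  have hsq : ∀ q : Q, q * q = 1 := fun q => QuotientGroup.induction_on q fun x => by
    rw [← QuotientGroup.mk_mul]; exact (QuotientGroup.eq_one_iff _).2 (h.sixty.sq x)
  letI : CommGroup Q := { (inferInstance : Group Q) with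
    mul_comm := fun p q => by
      rw [← inv_eq_of_mul_eq_one_right (hsq (p * q)), mul_inv_rev, inv_eq_of_mul_eq_one_right (hsq p),
        inv_eq_of_mul_eq_one_right (hsq q)] }
  haveI : Fintype Q := Fintype.ofFinite _
  haveI : Finite (Q →* ℂˣ) :=
    Finite.of_equiv _ (CommGroup.monoidHom_mulEquiv_of_hasEnoughRootsOfUnity Q ℂ).some.symm.toEquiv
  haveI : Fintype (Q →* ℂˣ) := Fintype.ofFinite _
  have hQ16 : Fintype.card Q = 16 := by
    have h1 := (Subgroup.center (S : Subgroup G)).card_eq_card_quotient_mul_card_subgroup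
    rw [h.sixty.card, h.sixty.card_center] at h1
    rw [← Nat.card_eq_fintype_card]
    change 64 = Nat.card Q * 4 at h1
    omega
  have hX : Fintype.card (Q →* ℂˣ) = 16 := by
    rw [← hQ16, ← Nat.card_eq_fintype_card, ← Nat.card_eq_fintype_card,
      CommGroup.card_monoidHom_of_hasEnoughRootsOfUnity]
  have hsum : ∀ q : Q, ∑ φ : Q →* ℂˣ, ((φ q : ℂˣ) : ℂ) = if q = 1 then 16 else 0 := by
    intro q
    split_ifs with hq
    · subst hq; simp [hX]
    · refine sum_hom_units_eq_zero ((Units.coeHom ℂ).comp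
        { toFun := fun φ : Q →* ℂˣ => φ q, map_one' := rfl, map_mul' := fun _ _ => rfl }) fun e => ?_
      obtain ⟨φ, hφ⟩ := CommGroup.exists_apply_ne_one_of_hasEnoughRootsOfUnity Q ℂ hq
      exact hφ (Units.ext (DFunLike.congr_fun e φ))
  have hcen : Subgroup.center (S : Subgroup G) ≤
      (Subgroup.center (S : Subgroup G)).comap (F.aut 1) := fun z hz => F.aut_center 1 hz
  let σ : Q →* Q := QuotientGroup.map _ _ (F.aut 1) hcen
  have hσ : ∀ x : (S : Subgroup G), σ x = (F.aut 1 x : (S : Subgroup G)) := fun x => rfl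
  have hσ3 : ∀ q, σ (σ (σ q)) = q := fun q => QuotientGroup.induction_on q fun x => by
    rw [hσ, hσ, hσ, ← F.aut_add, ← F.aut_add, F.aut_three]
  let f : (Q →* ℂˣ) → (Q →* ℂˣ) := fun φ => φ.comp σ
  have hf3 : ∀ φ, f (f (f φ)) = φ := fun φ => MonoidHom.ext fun q => by
    show φ (σ (σ (σ q))) = φ q
    rw [hσ3]
  have hfix : ∀ q : Q, σ q = q → q = 1 := fun q => QuotientGroup.induction_on q fun x hx => by
    rw [hσ, QuotientGroup.eq_iff_div_mem, div_eq_mul_inv] at hx
    refine (QuotientGroup.eq_one_iff x).2 ((h.mem_center_iff_four x).2 ?_)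
    exact F.moves_coset (i := 1) (by norm_num) (by norm_num) x.2 ((h.mem_center_iff_four _).1 hx)
  have hne : ∀ φ : Q →* ℂˣ, φ ≠ 1 → f φ ≠ φ := by
    intro φ hφ e
    refine hφ (MonoidHom.ext fun q => ?_)
    have e1 : ∀ p, φ (σ p) = φ p := fun p => DFunLike.congr_fun e p
    have hp : q * σ q * σ (σ q) = 1 := hfix _ (by
      rw [map_mul, map_mul, hσ3, mul_comm (σ q * σ (σ q)), mul_assoc])
    have h2 := congrArg φ hp
    rw [map_mul, map_mul, e1, e1, e1, ← map_mul, hsq q, map_one, one_mul] at h2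
    simpa using h2
  obtain ⟨r, hr, hinj⟩ := exists_reps f hf3 5 (Finset.univ.erase 1)
    (by rw [Finset.card_erase_of_mem (Finset.mem_univ _), Finset.card_univ, hX])
    (fun φ hφ => by
      refine Finset.mem_erase.2 ⟨fun e => Finset.ne_of_mem_erase hφ ?_, Finset.mem_univ _⟩
      rw [← hf3 φ, e]; rfl)
    (fun φ hφ => hne φ (Finset.ne_of_mem_erase hφ))
  have hiter : ∀ (φ : Q →* ℂˣ) (i : Fin 3) (x : (S : Subgroup G)),
      (f^[(i : ℕ)] φ) x = φ ((F.aut i x : (S : Subgroup G)) : Q) := by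
    intro φ i x
    fin_cases i
    · show φ x = φ ((F.aut 0 x : (S : Subgroup G)) : Q); rw [F.aut_zero]
    · rfl
    · show φ (σ (σ x)) = φ ((F.aut 2 x : (S : Subgroup G)) : Q)
      rw [hσ, hσ, ← F.aut_add]
  refine ⟨fun j => (r j).comp (QuotientGroup.mk' _), fun j z hz => ?_, fun j e => ?_, fun j i k e => ?_,
    fun x _ => ?_⟩
  · show r j (z : Q) = 1
    rw [(QuotientGroup.eq_one_iff z).2 hz, map_one]
  · refine Finset.ne_of_mem_erase (hr j 0) (MonoidHom.ext fun q => QuotientGroup.induction_on q fun x => ?_)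
    exact DFunLike.congr_fun e x
  · have h1 : f^[((i : Fin 3) : ℕ)] (r j) = f^[((0 : Fin 3) : ℕ)] (r k) :=
      MonoidHom.ext fun q => QuotientGroup.induction_on q fun x => by
        rw [hiter, hiter, Fin.val_zero, F.aut_zero]
        exact DFunLike.congr_fun e x
    exact Prod.mk.inj (hinj (a₁ := (j, i)) (a₂ := (k, 0)) h1)
  · have himg : Finset.univ.image (fun p : Fin 5 × Fin 3 => f^[(p.2 : ℕ)] (r p.1)) = Finset.univ.erase 1 :=
      Finset.eq_of_subset_of_card_le (by
        intro φ hφ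
        obtain ⟨p, -, rfl⟩ := Finset.mem_image.1 hφ
        exact hr p.1 p.2)
        (by rw [Finset.card_image_of_injective _ hinj, Finset.card_erase_of_mem (Finset.mem_univ _),
          Finset.card_univ, hX, Finset.card_univ, Fintype.card_prod, Fintype.card_fin, Fintype.card_fin])
    have h1 := hsum (x : Q)
    rw [← Finset.add_sum_erase _ _ (Finset.mem_univ (1 : Q →* ℂˣ)), ← himg,
      Finset.sum_image (fun p _ q _ e => hinj e), Fintype.sum_prod_type] at h1
    simp only [hiter, MonoidHom.one_apply, Units.val_one] at h1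
    refine h1.trans ?_
    exact if_congr (QuotientGroup.eq_one_iff x) rfl rfl

/-- The character of degree four. -/
theorem exists_four :
    ∃ ψ : IrrCharacter (S : Subgroup G), (∀ x, conj ((ψ : ↥(S : Subgroup G) → ℂ) x) = (ψ : ↥(S : Subgroup G) → ℂ) x) ∧
      (∀ x, x ∉ Subgroup.center (S : Subgroup G) → (ψ : ↥(S : Subgroup G) → ℂ) x = 0) ∧
      (ψ : ↥(S : Subgroup G) → ℂ) 1 = 4 ∧
      ∑ x, (ψ : ↥(S : Subgroup G) → ℂ) x = 0 ∧
      (∀ i : Fin 3, ∑ x, (ψ : ↥(S : Subgroup G) → ℂ) x * (ψ : ↥(S : Subgroup G) → ℂ) (F.aut i x) =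
        if i = 0 then 64 else 0) := by
  classical
  let za : (S : Subgroup G) := ⟨a, h.four_le h.a_mem⟩
  let zb : (S : Subgroup G) := ⟨b, h.four_le h.b_mem⟩
  have hzaC : za ∈ Subgroup.center (S : Subgroup G) := (h.mem_center_iff_four za).2 h.a_mem
  have hzbC : zb ∈ Subgroup.center (S : Subgroup G) := (h.mem_center_iff_four zb).2 h.b_mem
  have za1 : za ≠ 1 := fun e => h.ha.2.1.1 (congrArg Subtype.val e)
  obtain ⟨ψ, hψa⟩ : ∃ ψ : IrrCharacter (S : Subgroup G),
      (ψ : ↥(S : Subgroup G) → ℂ) za ≠ (ψ : ↥(S : Subgroup G) → ℂ) 1 := by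
    by_contra hc
    push Not at hc
    have e1 := CfsgLib.E8Solv.sum_irr_eq_card za (1 : (S : Subgroup G))
    have e2 := CfsgLib.E8Solv.sum_irr_eq_card (1 : (S : Subgroup G)) (1 : (S : Subgroup G))
    simp only [hc] at e1
    haveI : IsEmpty {z : (S : Subgroup G) // z * za * z⁻¹ = 1} := ⟨fun z => za1 (conj_eq_one_iff.1 z.2)⟩
    rw [Nat.card_of_isEmpty, Nat.cast_zero, e2] at e1
    haveI : Nonempty {z : (S : Subgroup G) // z * 1 * z⁻¹ = 1} := ⟨⟨1, by simp⟩⟩
    exact Nat.card_pos.ne' (by exact_mod_cast e1)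
  set P : ↥(S : Subgroup G) → ℂ := (ψ : ↥(S : Subgroup G) → ℂ) with hP
  have hne1 : P 1 ≠ 0 := Blocks.irr_one_ne_zero ψ
  have hsign : ∀ z ∈ Subgroup.center (S : Subgroup G), ∃ t : ℂ, (t = 1 ∨ t = -1) ∧ ∀ g, P (z * g) = t * P g := by
    intro z hz
    obtain ⟨t, -, ht⟩ := CfsgLib.Blocks.KGV.Knorr.exists_central_root ψ.2 hz
    have ht' : ∀ g, P (z * g) = t * P g := ht
    refine ⟨t, mul_self_eq_one_iff.1 ?_, ht'⟩
    have h1 : P 1 = t * t * P 1 := by
      calc P 1 = P (z * (z * 1)) := by rw [← mul_assoc, h.sixty.cen z hz, one_mul]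
        _ = t * t * P 1 := by rw [ht', ht', mul_assoc]
    exact (mul_eq_right₀ hne1).1 h1.symm
  obtain ⟨t, ht1, ht⟩ := hsign za hzaC
  have hta : ∀ g, P (za * g) = -P g := by
    rcases ht1 with rfl | rfl
    · exact absurd (by simpa using ht 1) hψa
    · intro g; rw [ht g, neg_one_mul]
  have hzero : ∀ x, x ∉ Subgroup.center (S : Subgroup G) → P x = 0 := by
    intro x hx
    obtain ⟨y, hy⟩ := h.sixty.surj x hx za hzaC
    have h1 : y * x⁻¹ * y⁻¹ = x⁻¹ * za := by rw [← hy, commutatorElement_def]; group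
    have h2 : P (y * x⁻¹ * y⁻¹) = P x⁻¹ := isClassFunction_irr ψ.2 x⁻¹ y
    rw [h1, ← (Subgroup.mem_center_iff.1 hzaC x⁻¹).symm, hta] at h2
    have h3 : P x⁻¹ = 0 := by linear_combination (-(1 : ℂ) / 2) * h2
    have h4 := Blocks.irr_inv ψ x⁻¹
    rw [inv_inv] at h4
    rw [show P x = conj (P x⁻¹) from h4, h3, map_zero]
  have hreal : ∀ x, conj (P x) = P x := by
    intro x
    by_cases hx : x ∈ Subgroup.center (S : Subgroup G)
    · have := Blocks.irr_conjInv ψ x
      rwa [inv_eq_of_mul_eq_one_right (h.sixty.cen x hx)] at this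
    · rw [hzero x hx, map_zero]
  have hsum0 : ∑ x, P x = 0 := by
    have h1 : ∑ x, P x = ∑ x, P (za * x) := (Fintype.sum_equiv (Equiv.mulLeft za) _ _ fun x => rfl).symm
    simp only [hta, Finset.sum_neg_distrib] at h1
    linear_combination h1 / 2
  have hnorm : ∑ x, P x * P x = 64 := by
    have h1 := classInner_irr_self ψ.2
    rw [classInner, h.sixty.card] at h1
    rw [Finset.sum_congr rfl fun x _ => show P x * P x = P x * conj (P x) by rw [hreal]]
    rw [← hP] at h1
    push_cast at h1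
    linear_combination (64 : ℂ) * h1
  have hsq : ∀ x, P x * P x = if x ∈ Subgroup.center (S : Subgroup G) then P 1 * P 1 else 0 := by
    intro x
    split_ifs with hx
    · obtain ⟨t', ht', ht''⟩ := hsign x hx
      rw [show P x = t' * P 1 by rw [← ht'', mul_one]]
      rcases ht' with rfl | rfl <;> ring
    · rw [hzero x hx, mul_zero]
  have hdeg : P 1 = 4 := by
    obtain ⟨n, hn⟩ := char_one_eq_natCast (isCharacter_of_irr ψ.2)
    have hn' : P 1 = (n : ℂ) := hn
    rw [Finset.sum_congr rfl fun x _ => hsq x, ← Finset.sum_filter, Finset.sum_const, nsmul_eq_mul,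
      ← Fintype.card_subtype, ← Nat.card_eq_fintype_card, h.sixty.card_center, hn'] at hnorm
    have h16 : 4 * (n * n) = 64 := by exact_mod_cast hnorm
    have h4 : n = 4 := by
      have : n * n = 4 * 4 := by omega
      exact Nat.mul_self_inj.1 this
    rw [hn', h4]; norm_num
  refine ⟨ψ, hreal, hzero, hdeg, hsum0, fun i => ?_⟩
  by_cases hi : i = 0
  · subst hi
    rw [if_pos rfl, ← hnorm]
    exact Finset.sum_congr rfl fun x _ => by rw [Fin.val_zero, F.aut_zero]
  rw [if_neg hi]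
  have hi0 : (i : ℕ) ≠ 0 := fun e => hi (Fin.ext e)
  -- a central element of sign one
  obtain ⟨z0, hz0C, hz01, hz0⟩ : ∃ z ∈ Subgroup.center (S : Subgroup G), z ≠ 1 ∧ ∀ g, P (z * g) = P g := by
    obtain ⟨t', ht', hb'⟩ := hsign zb hzbC
    rcases ht' with rfl | rfl
    · exact ⟨zb, hzbC, fun e => h.hb.2.1.1 (congrArg Subtype.val e), fun g => by rw [hb', one_mul]⟩
    · refine ⟨za * zb, mul_mem hzaC hzbC, fun e => h.ne ?_, fun g => by rw [mul_assoc, hta, hb']; ring⟩
      have e' : a * b = 1 := congrArg Subtype.val e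
      rw [← inv_eq_of_mul_eq_one_right e', inv_eq_of_mul_eq_one_right (h.four_sq h.a_mem)]
  set z1 := F.aut i z0
  have hz1 : ∀ g, P (z1 * g) = -P g := by
    obtain ⟨t', ht', hz1'⟩ := hsign z1 (F.aut_center i hz0C)
    rcases ht' with rfl | rfl
    swap
    · intro g; rw [hz1', neg_one_mul]
    exfalso
    have hP1 : ∀ z : (S : Subgroup G), (∀ g, P (z * g) = P g) → z ≠ za := fun z hz e => by
      have := hz 1
      rw [e, hta, neg_eq_iff_add_eq_zero] at this
      exact hne1 (by linear_combination this / 2)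
    have hm0 : z0 ≠ za := hP1 z0 hz0
    have hm1 : z1 ≠ za := hP1 z1 fun g => by rw [hz1', one_mul]
    have hne : z1 ≠ z0 := fun e => F.act_move hi0 i.2 ((h.mem_center_iff_four z0).1 hz0C)
      (fun e0 => hz01 (Subtype.ext e0)) (congrArg Subtype.val e)
    have hm2 : z0 * z1 ≠ za := hP1 _ fun g => by rw [mul_assoc, hz0, hz1', one_mul]
    have g0 := h.mem_four.1 ((h.mem_center_iff_four z0).1 hz0C)
    have g1 := h.mem_four.1 (F.act_four_mem i ((h.mem_center_iff_four z0).1 hz0C))
    have v0 : (z0 : G) ≠ 1 := fun e0 => hz01 (Subtype.ext e0)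
    have v1 : (z1 : G) ≠ 1 := fun e0 => hz01 (F.aut_injective i ((Subtype.ext e0 : z1 = 1).trans (map_one _).symm))
    have w0 : (z0 : G) ≠ a := fun e0 => hm0 (Subtype.ext e0)
    have w1 : (z1 : G) ≠ a := fun e0 => hm1 (Subtype.ext e0)
    have w : (z1 : G) ≠ z0 := fun e0 => hne (Subtype.ext e0)
    have w2 : (z0 : G) * z1 ≠ a := fun e0 => hm2 (Subtype.ext e0)
    have hbb := h.four_sq h.b_mem
    have hab : a * b = b * a := h.four_comm h.a_mem (h.four_le h.b_mem)
    rw [← F.coe_aut] at g1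
    rcases g0 with e0 | e0 | e0 | e0 <;> rcases g1 with e1 | e1 | e1 | e1 <;> first
      | exact absurd e0 v0
      | exact absurd e0 w0
      | exact absurd e1 v1
      | exact absurd e1 w1
      | exact absurd (e1.trans e0.symm) w
      | exact w2 (by rw [e0, show ((z1 : (S : Subgroup G)) : G) = _ from e1, hab, ← mul_assoc, hbb, one_mul])
      | exact w2 (by rw [e0, show ((z1 : (S : Subgroup G)) : G) = _ from e1, mul_assoc, hbb, mul_one])
  have h1 : ∑ x, P x * P (F.aut i x) = ∑ x, P (z0 * x) * P (F.aut i (z0 * x)) :=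
    (Fintype.sum_equiv (Equiv.mulLeft z0) _ _ fun x => rfl).symm
  simp only [map_mul, hz0, ← show z1 = F.aut i z0 from rfl, hz1, mul_neg, Finset.sum_neg_distrib] at h1
  linear_combination h1 / 2

end Frame

end Three

end CfsgLib.U34Char
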